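import Groth.Agent.L10.DRing.DualCx
import Groth.Agent.L29.Dual.FlatBC
import Groth.Prelude.Def_DTen4
import Mathlib.LinearAlgebra.Dual.Basis
import Mathlib.LinearAlgebra.TensorProduct.Basis
import Mathlib.RingTheory.TensorProduct.Free

/-!
The dual of a complex of finite free modules commutes with base change.
-/

set_option autoImplicit false
set_option backward.defeqAttrib.useBackward true
set_option backward.isDefEq.respectTransparency false
set_option linter.style.haveILetI false

universe u

open CategoryTheory CategoryTheory.Limits CochainComplex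
open scoped TensorProduct

attribute [local instance] HasDerivedCategory.standard

noncomputable section

namespace Groth.L10.RelDual

section Modules

variable {T T' : Type u} [CommRing T] [CommRing T'] [Algebra T T'] (M : Type u) [AddCommGroup M] [Module T M]

/-- a functional gives one on the base change -/
def dualBCMap : T' ⊗[T] Module.Dual T M →ₗ[T'] Module.Dual T' (T' ⊗[T] M) :=
  LinearMap.liftBaseChange T'
    { toFun := fun φ => LinearMap.liftBaseChange T' ((Algebra.linearMap T T').comp φ)
      map_add' := fun φ ψ => by
        ext m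
        simp
      map_smul' := fun c φ => by
        ext m
        simp [Algebra.smul_def] }

theorem dualBCMap_tmul (s s' : T') (φ : Module.Dual T M) (m : M) :
    dualBCMap (T := T) (T' := T') M (s ⊗ₜ[T] φ) (s' ⊗ₜ[T] m) = s * (s' * algebraMap T T' (φ m)) := by
  simp [dualBCMap]

theorem dualBCMap_bijective [Module.Finite T M] [Module.Free T M] :
    Function.Bijective (dualBCMap (T := T) (T' := T') M) := by
  classical
  let b := Module.Free.chooseBasis T M
  let e := (b.dualBasis.baseChange T').equiv (b.baseChange T').dualBasis (Equiv.refl _)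
  have h : dualBCMap (T := T) (T' := T') M = e.toLinearMap := (b.dualBasis.baseChange T').ext fun i =>
    (b.baseChange T').ext fun k => by
      simp only [e, LinearEquiv.coe_coe, Module.Basis.equiv_apply, Equiv.refl_apply]
      rw [Module.Basis.baseChange_apply, Module.Basis.dualBasis_apply_self, Module.Basis.baseChange_apply,
        dualBCMap_tmul, Module.Basis.dualBasis_apply_self]
      split <;> simp
  rw [h]
  exact e.bijective

end Modules

variable {T T' : Type u} [CommRing T] [CommRing T']

/-- dual and base change -/
theorem nonempty_dual_ext (h : T →+* T') (F : DRing.Cx T) (hF : DRing.TermwiseFiniteFree F) :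
    Nonempty ((_root_.DTen.extCx h).obj (Groth.L10.DualCx.dual F) ≅
      Groth.L10.DualCx.dual ((_root_.DTen.extCx h).obj F)) := by
  letI := h.toAlgebra
  let eX : ∀ i : ℤ, T' ⊗[T] Module.Dual T (F.X (-i)) ≃ₗ[T']
      Module.Dual T' ((ModuleCat.extendScalars.{u, u, u} h).obj (F.X (-i))) := fun i =>
    haveI := (hF (-i)).1
    haveI := (hF (-i)).2
    (LinearEquiv.ofBijective (dualBCMap (T := T) (T' := T') (F.X (-i))) (dualBCMap_bijective _)).trans
      (Groth.L29.FlatBC.extEquiv T T' (F.X (-i))).dualMap
  refine ⟨HomologicalComplex.Hom.isoOfComponents (fun i =>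
    LinearEquiv.toModuleIso (X₂ := Module.Dual T' ((ModuleCat.extendScalars.{u, u, u} h).obj (F.X (-i))))
      ((Groth.L29.FlatBC.extEquiv T T' ((Groth.L10.DualCx.dual F).X i)).trans (eX i))) fun i j _ => ?_⟩
  refine ModuleCat.hom_ext (LinearMap.ext fun x => LinearMap.ext fun
    (w : (ModuleCat.extendScalars.{u, u, u} h).obj (F.X (-j))) => ?_)
  induction x using TensorProduct.induction_on with
  | zero => erw [map_zero, map_zero]
  | add x y hx hy => erw [map_add, map_add, LinearMap.add_apply, LinearMap.add_apply, hx, hy]
  | tmul s φ =>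
    obtain ⟨s, rfl⟩ : ∃ t : T', t = s := ⟨s, rfl⟩
    induction w using TensorProduct.induction_on with
    | zero => erw [map_zero, map_zero]
    | add a b ha hb => erw [map_add, map_add, ha, hb]
    | tmul s' m =>
      obtain ⟨s', rfl⟩ : ∃ t : T', t = s' := ⟨s', rfl⟩
      change ((j.negOnePow : ℤ) : T') • dualBCMap (F.X (-i)) ((s : T') ⊗ₜ (φ : Module.Dual T (F.X (-i))))
          ((s' : T') ⊗ₜ F.d (-j) (-i) m) =
        dualBCMap (F.X (-j)) ((s : T') ⊗ₜ (((j.negOnePow : ℤ) : T) • (F.d (-j) (-i)).hom.dualMap φ)) ((s' : T') ⊗ₜ m)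
      rw [dualBCMap_tmul, dualBCMap_tmul, LinearMap.smul_apply, LinearMap.dualMap_apply, smul_eq_mul, smul_eq_mul,
        map_mul, map_intCast]
      change ((j.negOnePow : ℤ) : T') * ((s : T') * ((s' : T') * algebraMap T T' (DFunLike.coe (F := Module.Dual T (F.X (-i))) φ (F.d (-j) (-i) m)))) =
        (s : T') * ((s' : T') * (((j.negOnePow : ℤ) : T') * algebraMap T T' (DFunLike.coe (F := Module.Dual T (F.X (-i))) φ (F.d (-j) (-i) m))))
      ring

end Groth.L10.RelDual
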