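import Groth.Agent.L10.RelPC.BC
import Groth.Agent.L10.DRing.RelPerfOps
import Groth.Agent.L10.DRing.KFlatLBC
import Groth.Agent.L10.KFlat.Res
import Groth.Agent.L10.DRing.DualCx
import Mathlib.RingTheory.IsTensorProduct

/-!
Cocartesian squares of rings given by maps; termwise base change of complexes which are flat over the base.
-/

set_option autoImplicit false
set_option backward.defeqAttrib.useBackward true
set_option backward.isDefEq.respectTransparency false
set_option linter.style.haveILetI false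

universe u

open CategoryTheory CategoryTheory.Limits CochainComplex

attribute [local instance] HasDerivedCategory.standard

noncomputable section

namespace Groth.L10.RelDual

variable {A A' S S' : Type u} [CommRing A] [CommRing A'] [CommRing S] [CommRing S']

/-- `S' = A' ⊗_A S` -/
def Push (φ : A →+* A') (ψ : A →+* S) (φ' : S →+* S') (ψ' : A' →+* S') : Prop :=
  ∃ h : φ'.comp ψ = ψ'.comp φ,
    @Algebra.IsPushout A A' _ _ φ.toAlgebra S S' _ _ ψ.toAlgebra ψ'.toAlgebra φ'.toAlgebra (φ'.comp ψ).toAlgebra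
      (@IsScalarTower.of_algebraMap_eq A S S' _ _ _ ψ.toAlgebra φ'.toAlgebra (φ'.comp ψ).toAlgebra fun _ => rfl)
      (@IsScalarTower.of_algebraMap_eq A A' S' _ _ _ φ.toAlgebra ψ'.toAlgebra (φ'.comp ψ).toAlgebra fun x =>
        RingHom.congr_fun h x)

variable {φ : A →+* A'} {ψ : A →+* S} {φ' : S →+* S'} {ψ' : A' →+* S'}

theorem Push.comm (h : Push φ ψ φ' ψ') : φ'.comp ψ = ψ'.comp φ := h.1

theorem Push.symm (h : Push φ ψ φ' ψ') : Push ψ φ ψ' φ' := by
  obtain ⟨hc, hp⟩ := h
  refine ⟨hc.symm, ?_⟩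
  letI := φ.toAlgebra; letI := ψ.toAlgebra; letI := φ'.toAlgebra; letI := ψ'.toAlgebra
  letI := (φ'.comp ψ).toAlgebra
  haveI : IsScalarTower A S S' := IsScalarTower.of_algebraMap_eq fun _ => rfl
  haveI : IsScalarTower A A' S' := IsScalarTower.of_algebraMap_eq fun x => RingHom.congr_fun hc x
  have h1 : Algebra.IsPushout A S A' S' := Algebra.IsPushout.symm hp
  have e : (ψ'.comp φ).toAlgebra = ((φ'.comp ψ).toAlgebra : Algebra A S') := congrArg RingHom.toAlgebra hc.symm
  convert h1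

variable {U U' : Type u} [CommRing U] [CommRing U'] {χ : S →+* U} {φ'' : U →+* U'} {χ' : S' →+* U'}

theorem push_iff_comp (h₁ : Push φ ψ φ' ψ') (hc : φ''.comp χ = χ'.comp φ') :
    Push φ (χ.comp ψ) φ'' (χ'.comp ψ') ↔ Push φ' χ φ'' χ' := by
  obtain ⟨hc₁, hp⟩ := h₁
  have hc₂ : φ''.comp (χ.comp ψ) = (χ'.comp ψ').comp φ := by
    rw [← RingHom.comp_assoc, hc, RingHom.comp_assoc, hc₁, RingHom.comp_assoc]
  letI := φ.toAlgebra; letI := ψ.toAlgebra; letI := φ'.toAlgebra; letI := ψ'.toAlgebra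
  letI := (φ'.comp ψ).toAlgebra
  letI := (χ.comp ψ).toAlgebra; letI := χ.toAlgebra; letI := φ''.toAlgebra; letI := χ'.toAlgebra
  letI := (χ'.comp ψ').toAlgebra
  letI := (φ''.comp χ).toAlgebra
  letI := (φ''.comp (χ.comp ψ)).toAlgebra
  haveI : IsScalarTower A S S' := IsScalarTower.of_algebraMap_eq fun _ => rfl
  haveI : IsScalarTower A A' S' := IsScalarTower.of_algebraMap_eq fun x => RingHom.congr_fun hc₁ x
  haveI : IsScalarTower A S U := IsScalarTower.of_algebraMap_eq fun _ => rfl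
  haveI : IsScalarTower A U U' := IsScalarTower.of_algebraMap_eq fun _ => rfl
  haveI : IsScalarTower S U U' := IsScalarTower.of_algebraMap_eq fun _ => rfl
  haveI : IsScalarTower S S' U' := IsScalarTower.of_algebraMap_eq fun x => RingHom.congr_fun hc x
  haveI : IsScalarTower A A' U' := IsScalarTower.of_algebraMap_eq fun x => RingHom.congr_fun hc₂ x
  haveI : IsScalarTower A' S' U' := IsScalarTower.of_algebraMap_eq fun _ => rfl
  haveI : IsScalarTower A S' U' := IsScalarTower.of_algebraMap_eq fun x =>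
    (RingHom.congr_fun hc (ψ x))
  haveI : Algebra.IsPushout A S A' S' := Algebra.IsPushout.symm hp
  have key : Algebra.IsPushout A U A' U' ↔ Algebra.IsPushout S U S' U' := Algebra.IsPushout.comp_iff A S A' S'
  constructor
  · rintro ⟨_, h⟩
    exact ⟨hc, Algebra.IsPushout.symm (key.1 (Algebra.IsPushout.symm h))⟩
  · rintro ⟨_, h⟩
    exact ⟨hc₂, Algebra.IsPushout.symm (key.2 (Algebra.IsPushout.symm h))⟩

theorem Push.comp (h₁ : Push φ ψ φ' ψ') (h₂ : Push φ' χ φ'' χ') : Push φ (χ.comp ψ) φ'' (χ'.comp ψ') :=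
  (push_iff_comp h₁ h₂.comm).2 h₂

theorem Push.cancel (h₁ : Push φ ψ φ' ψ') (h₂ : Push φ (χ.comp ψ) φ'' (χ'.comp ψ'))
    (hc : φ''.comp χ = χ'.comp φ') : Push φ' χ φ'' χ' :=
  (push_iff_comp h₁ hc).1 h₂

/-- base change commutes with restriction -/
theorem Push.nonempty_bcRes (h : Push φ ψ φ' ψ') (P : DRing.Cx S) :
    Nonempty ((_root_.DTen.extCx φ).obj ((_root_.DTen.resCx ψ).obj P) ≅
      (_root_.DTen.resCx ψ').obj ((_root_.DTen.extCx φ').obj P)) := by
  obtain ⟨hc, hp⟩ := h
  letI := φ.toAlgebra; letI := ψ.toAlgebra; letI := φ'.toAlgebra; letI := ψ'.toAlgebra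
  letI := (φ'.comp ψ).toAlgebra
  haveI : IsScalarTower A S S' := IsScalarTower.of_algebraMap_eq fun _ => rfl
  haveI : IsScalarTower A A' S' := IsScalarTower.of_algebraMap_eq fun x => RingHom.congr_fun hc x
  haveI : Algebra.IsPushout A A' S S' := hp
  exact ⟨Groth.L10.RelPerfOps.bcResIso A A' S S' P⟩

/-- quasi-isomorphisms of bounded above complexes, flat over the base, survive base change -/
theorem Push.quasiIso_ext (h : Push φ ψ φ' ψ') {P Q : DRing.Cx S} (g : P ⟶ Q) [QuasiIso g] {b b' : ℤ}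
    (hP : DRing.VanishesAbove P b) (hQ : DRing.VanishesAbove Q b')
    (hPf : ∀ i, Module.Flat A ((ModuleCat.restrictScalars.{u} ψ).obj (P.X i)))
    (hQf : ∀ i, Module.Flat A ((ModuleCat.restrictScalars.{u} ψ).obj (Q.X i))) :
    QuasiIso ((_root_.DTen.extCx φ').map g) := by
  obtain ⟨hc, hp⟩ := h
  letI := φ.toAlgebra; letI := ψ.toAlgebra; letI := φ'.toAlgebra; letI := ψ'.toAlgebra
  letI := (φ'.comp ψ).toAlgebra
  haveI : IsScalarTower A S S' := IsScalarTower.of_algebraMap_eq fun _ => rfl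
  haveI : IsScalarTower A A' S' := IsScalarTower.of_algebraMap_eq fun x => RingHom.congr_fun hc x
  haveI : Algebra.IsPushout A A' S S' := hp
  haveI : QuasiIso ((_root_.DTen.resCx ψ).map g) :=
    HomologicalComplex.quasiIso_map_iff_of_preservesHomology g (ModuleCat.restrictScalars.{u} ψ) |>.2 inferInstance
  have hkP : DRing.IsKFlat A ((_root_.DTen.resCx ψ).obj P) := Groth.L10.KFlat.of_bounded _ b
    (fun i hi => Functor.map_isZero (ModuleCat.restrictScalars.{u} ψ) (hP i hi)) hPf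
  have hkQ : DRing.IsKFlat A ((_root_.DTen.resCx ψ).obj Q) := Groth.L10.KFlat.of_bounded _ b'
    (fun i hi => Functor.map_isZero (ModuleCat.restrictScalars.{u} ψ) (hQ i hi)) hQf
  haveI := Groth.L10.DTen.isIso_extQ_map φ ((_root_.DTen.resCx ψ).map g) hkP hkQ
  haveI : QuasiIso ((_root_.DTen.extCx φ).map ((_root_.DTen.resCx ψ).map g)) :=
    (DerivedCategory.isIso_Q_map_iff_quasiIso (C := ModuleCat.{u} A') _).1 inferInstance
  have hn : (_root_.DTen.extCx φ).map ((_root_.DTen.resCx ψ).map g) ≫ (Groth.L10.RelPerfOps.bcResIso A A' S S' Q).hom =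
      (Groth.L10.RelPerfOps.bcResIso A A' S S' P).hom ≫ (_root_.DTen.resCx ψ').map ((_root_.DTen.extCx φ').map g) :=
    HomologicalComplex.hom_ext _ _ fun i => (Groth.L10.RelPC.extResNat A A' S S').hom.naturality (g.f i)
  haveI : QuasiIso ((Groth.L10.RelPerfOps.bcResIso A A' S S' P).hom ≫
      (_root_.DTen.resCx ψ').map ((_root_.DTen.extCx φ').map g)) := by
    rw [← hn]; infer_instance
  haveI : QuasiIso ((_root_.DTen.resCx ψ').map ((_root_.DTen.extCx φ').map g)) :=
    quasiIso_of_comp_left (Groth.L10.RelPerfOps.bcResIso A A' S S' P).hom _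
  exact (HomologicalComplex.quasiIso_map_iff_of_preservesHomology ((_root_.DTen.extCx φ').map g)
    (ModuleCat.restrictScalars.{u} ψ')).1 inferInstance

/-- derived base change of a bounded above complex which is flat over the base is termwise -/
theorem Push.nonempty_lbc (h : Push φ ψ φ' ψ') (hψ : ψ.Flat) [DRing.HasLBaseChange φ'] (E : DRing.Cx S) {b : ℤ}
    (hE : DRing.VanishesAbove E b) (hEf : ∀ i, Module.Flat A ((ModuleCat.restrictScalars.{u} ψ).obj (E.X i))) :
    Nonempty ((DRing.LBaseChange φ').obj (DRing.toD E) ≅ DRing.toD ((_root_.DTen.extCx φ').obj E)) := by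
  haveI : E.IsStrictlyLE b := (CochainComplex.isStrictlyLE_iff _ _).2 hE
  obtain ⟨Q, hQb, hQf, hQk, ⟨e⟩⟩ := Groth.L02.PC.exists_free_rep (K := DRing.toD E)
    ((DerivedCategory.isLE_iff (DRing.toD E) b).1 inferInstance)
  haveI := hQk
  obtain ⟨g, hg⟩ := Groth.L10.DualCx.exists_qis e
  haveI := hg
  letI := ψ.toAlgebra
  haveI : Module.Flat A S := hψ
  haveI := h.quasiIso_ext g hQb hE (fun i => by
    haveI := hQf i
    exact Groth.L20.TorAmp.flat_restrict (A := A) (Q.X i)) hEf
  haveI := Groth.L10.RHomCx.isIso_Q_map ((_root_.DTen.extCx φ').map g)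
  exact ⟨(DRing.LBaseChange φ').mapIso e.symm ≪≫ Groth.L02.PC.lbcIso φ' Q ≪≫
    asIso (DerivedCategory.Q.map ((_root_.DTen.extCx φ').map g))⟩

end Groth.L10.RelDual
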