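import Groth.Agent.L10.RelDual.Univ
import Groth.Agent.L10.RelDual.Push
import Groth.Agent.L10.RelDual.DualBC
import Groth.Prelude.Def_DTen6

/-!
Base change of relative dualizing complexes along an arbitrary map of base rings.
-/

set_option autoImplicit false
set_option backward.defeqAttrib.useBackward true
set_option backward.isDefEq.respectTransparency false
set_option linter.style.haveILetI false
set_option maxHeartbeats 1600000

universe u

open CategoryTheory CategoryTheory.Limits CochainComplex MonoidalCategory
open scoped TensorProduct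

attribute [local instance] HasDerivedCategory.standard

noncomputable section

namespace Groth.L10.RelDual

open Groth.L10.DualCx

/-- base change of the ring in degree zero -/
theorem nonempty_ext_single_self {A B : Type u} [CommRing A] [CommRing B] (φ : A →+* B) :
    Nonempty ((_root_.DTen.extCx φ).obj
        ((CochainComplex.singleFunctor (ModuleCat.{u} A) 0).obj (ModuleCat.of A A)) ≅
      (CochainComplex.singleFunctor (ModuleCat.{u} B) 0).obj (ModuleCat.of B B)) := by
  letI := φ.toAlgebra
  exact ⟨(HomologicalComplex.singleMapHomologicalComplex (ModuleCat.extendScalars.{u, u, u} φ) (ComplexShape.up ℤ) 0).app _ ≪≫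
    (CochainComplex.singleFunctor (ModuleCat.{u} B) 0).mapIso
      ((Groth.L29.FlatBC.extEquiv A B (ModuleCat.of A A)).trans
        (TensorProduct.AlgebraTensorModule.rid A B B)).toModuleIso⟩

/-- base change followed by restriction is a tensor product -/
def extResIso {A B : Type u} [CommRing A] [CommRing B] (φ : A →+* B) :
    ModuleCat.extendScalars.{u, u, u} φ ⋙ ModuleCat.restrictScalars.{u} φ ≅
      MonoidalCategory.tensorRight ((ModuleCat.restrictScalars.{u} φ).obj (ModuleCat.of B B)) :=
  NatIso.ofComponents
    (fun N => LinearEquiv.toModuleIso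
      (X₁ := (ModuleCat.restrictScalars.{u} φ).obj ((ModuleCat.extendScalars.{u, u, u} φ).obj N))
      (X₂ := N ⊗[A] ((ModuleCat.restrictScalars.{u} φ).obj (ModuleCat.of B B)))
      { (TensorProduct.comm A ((ModuleCat.restrictScalars.{u} φ).obj (ModuleCat.of B B)) N).toAddEquiv with
        map_smul' := fun a x => by
          induction x using TensorProduct.induction_on with
          | zero =>
            exact (congrArg (TensorProduct.comm A ((ModuleCat.restrictScalars.{u} φ).obj (ModuleCat.of B B)) N)
              (smul_zero _)).trans ((map_zero _).trans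
                ((congrArg (a • ·) (map_zero (TensorProduct.comm A _ N))).trans (smul_zero a)).symm)
          | add x y hx hy =>
            exact (congrArg (TensorProduct.comm A ((ModuleCat.restrictScalars.{u} φ).obj (ModuleCat.of B B)) N)
              (smul_add _ _ _)).trans ((map_add _ _ _).trans ((congrArg₂ (· + ·) hx hy).trans
                ((congrArg (a • ·) (map_add (TensorProduct.comm A _ N) x y)).trans (smul_add a _ _)).symm))
          | tmul s n =>
            change n ⊗ₜ[A] _ = a • (n ⊗ₜ[A] s)
            rw [← TensorProduct.tmul_smul]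
            rfl })
    (fun {M N} f => by
      refine ModuleCat.hom_ext (LinearMap.ext fun x => ?_)
      induction x using TensorProduct.induction_on with
      | zero => exact (map_zero _).trans (map_zero _).symm
      | add x y hx hy => exact (map_add _ _ _).trans ((congrArg₂ (· + ·) hx hy).trans (map_add _ _ _).symm)
      | tmul s n => rfl)

/-- a quasi-isomorphism which survives tensoring survives base change -/
theorem quasiIso_ext_of_tensor {A B : Type u} [CommRing A] [CommRing B] (φ : A →+* B) {P Q : DRing.Cx A}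
    (g : P ⟶ Q)
    (hg : ∀ M : ModuleCat.{u} A, QuasiIso (((MonoidalCategory.tensorRight M).mapHomologicalComplex (ComplexShape.up ℤ)).map g)) :
    QuasiIso ((_root_.DTen.extCx φ).map g) := by
  let M := (ModuleCat.restrictScalars.{u} φ).obj (ModuleCat.of B B)
  let η := NatIso.mapHomologicalComplex (extResIso φ) (ComplexShape.up ℤ)
  have hn := η.hom.naturality g
  haveI := hg M
  have h1 : QuasiIso ((η.hom.app P) ≫ ((MonoidalCategory.tensorRight M).mapHomologicalComplex (ComplexShape.up ℤ)).map g) :=
    inferInstance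
  rw [← hn] at h1
  haveI := h1
  haveI : QuasiIso ((_root_.DTen.resCx φ).map ((_root_.DTen.extCx φ).map g)) :=
    quasiIso_of_comp_right (((ModuleCat.extendScalars.{u, u, u} φ ⋙ ModuleCat.restrictScalars.{u} φ).mapHomologicalComplex
      (ComplexShape.up ℤ)).map g) (η.hom.app Q)
  exact (HomologicalComplex.quasiIso_map_iff_of_preservesHomology ((_root_.DTen.extCx φ).map g)
    (ModuleCat.restrictScalars.{u} φ)).1 inferInstance

/-- termwise finite free complexes stay so after base change -/
theorem termwiseFiniteFree_ext {A B : Type u} [CommRing A] [CommRing B] (φ : A →+* B) {F : DRing.Cx A}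
    (hF : DRing.TermwiseFiniteFree F) : DRing.TermwiseFiniteFree ((_root_.DTen.extCx φ).obj F) := by
  letI := φ.toAlgebra
  intro i
  haveI := (hF i).1
  haveI := (hF i).2
  exact ⟨Module.Finite.equiv (Groth.L29.FlatBC.extEquiv A B (F.X i)).symm,
    Module.Free.of_equiv (Groth.L29.FlatBC.extEquiv A B (F.X i)).symm⟩

variable (R R' A A' : Type u) [CommRing R] [CommRing R'] [CommRing A] [CommRing A']
  [Algebra R R'] [Algebra R A] [Algebra R' A'] [Algebra A A'] [Algebra R A']
  [IsScalarTower R R' A'] [IsScalarTower R A A']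

/-- the map of the squares -/
def hSq : A ⊗[R] A →+* A' ⊗[R'] A' :=
  (Algebra.TensorProduct.lift (S := R)
    ((Algebra.TensorProduct.includeLeft : A' →ₐ[R] A' ⊗[R'] A').comp (IsScalarTower.toAlgHom R A A'))
    (((Algebra.TensorProduct.includeRight : A' →ₐ[R'] A' ⊗[R'] A').restrictScalars R).comp
      (IsScalarTower.toAlgHom R A A'))
    fun _ _ => Commute.all _ _).toRingHom

theorem hSq_j₁ : (hSq R R' A A').comp (j₁ R A) = (j₁ R' A').comp (algebraMap A A') :=
  RingHom.ext fun a => by simp [hSq]

theorem hSq_j₂ : (hSq R R' A A').comp (j₂ R A) = (j₂ R' A').comp (algebraMap A A') :=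
  RingHom.ext fun a => by simp [hSq]

variable [Algebra.IsPushout R R' A A']

theorem push_base : Push (algebraMap R R') (algebraMap R A) (algebraMap A A') (algebraMap R' A') := by
  refine ⟨by rw [← IsScalarTower.algebraMap_eq, ← IsScalarTower.algebraMap_eq], ?_⟩
  convert (inferInstance : Algebra.IsPushout R R' A A') <;>
    first
      | exact Algebra.algebra_ext _ _ fun _ => rfl
      | exact Algebra.algebra_ext _ _ fun r => (IsScalarTower.algebraMap_apply R A A' r).symm

/-- the diagonal square over one base -/
theorem push_square (R A : Type u) [CommRing R] [CommRing A] [Algebra R A] :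
    Push (algebraMap R A) (algebraMap R A) (j₂ R A) (j₁ R A) := by
  refine ⟨RingHom.ext fun r => by simp [← Algebra.TensorProduct.tmul_one_eq_one_tmul], ?_⟩
  convert (TensorProduct.isPushout (R := R) (S := A) (T := A)) <;>
    first
      | rfl
      | exact Algebra.algebra_ext _ _ fun _ => rfl
      | exact Algebra.algebra_ext _ _ fun r => (Algebra.TensorProduct.tmul_one_eq_one_tmul r).symm
      | exact Algebra.algebra_ext _ _ fun r => Algebra.TensorProduct.tmul_one_eq_one_tmul r

theorem push_j₂ : Push (algebraMap A A') (j₂ R A) (hSq R R' A A') (j₂ R' A') := by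
  have h1 := (push_base R R' A A').symm.comp (push_square R' A')
  rw [show (algebraMap R' A').comp (algebraMap R R') = (algebraMap A A').comp (algebraMap R A) by
    rw [← IsScalarTower.algebraMap_eq R R' A', ← IsScalarTower.algebraMap_eq R A A']] at h1
  rw [← hSq_j₁ R R' A A'] at h1
  exact ((push_square R A).cancel h1 (hSq_j₂ R R' A A').symm).symm

theorem push_sq : Push (algebraMap R R') ((j₂ R A).comp (algebraMap R A)) (hSq R R' A A')
    ((j₂ R' A').comp (algebraMap R' A')) :=
  (push_base R R' A A').comp (push_j₂ R R' A A')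

theorem push_μ : Push (hSq R R' A A') (μ R A) (algebraMap A A') (μ R' A') := by
  refine (push_j₂ R R' A A').cancel ?_ ?_
  · rw [← μ_j₂, ← μ_j₂]
    refine ⟨rfl, ?_⟩
    convert (inferInstance : Algebra.IsPushout A A' A A') <;> exact Algebra.algebra_ext _ _ fun _ => rfl
  · ext x <;> simp [hSq]

variable [Module.Flat R A] [Algebra.FinitePresentation R A]

/-- the base change of a relative dualizing complex is dualizing -/
theorem nonempty_baseChange {Rμ : Dual.D (A ⊗[R] A) ⥤ Dual.D A} (adj : DRing.restrictD (μ R A) ⊣ Rμ)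
    {Rμ' : Dual.D (A' ⊗[R'] A') ⥤ Dual.D A'} (adj' : DRing.restrictD (μ R' A') ⊣ Rμ')
    (E : DRing.Cx A) {c : ℤ} (hE : ∀ i, i < c → IsZero (E.X i))
    (hT : ∀ i : ℤ, Module.FinitePresentation A (E.X i) ∧
      Module.Flat R ((ModuleCat.restrictScalars.{u} (algebraMap R A)).obj (E.X i)))
    (e₀ : Rμ.obj (DRing.toD ((_root_.DTen.extCx (j₁ R A)).obj E)) ≅ Dual.inD A A) :
    Nonempty (Rμ'.obj (DRing.toD ((_root_.DTen.extCx (j₁ R' A')).obj ((_root_.DTen.extCx (algebraMap A A')).obj E))) ≅
      Dual.inD A' A') := by
  obtain ⟨F, b, hFb, hFf, ⟨q, hq⟩, z, hz⟩ := exists_data R A adj E hE hT e₀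
  haveI := hq
  let ι := algebraMap A A'
  let h := hSq R R' A A'
  let F' := (_root_.DTen.extCx h).obj F
  have hF'b : DRing.VanishesAbove F' b := fun i hi => (ModuleCat.extendScalars.{u, u, u} h).map_isZero (hFb i hi)
  have hF'f := termwiseFiniteFree_ext h hFf
  have hF'p : DRing.TermwiseFiniteProjective F' := fun i => by
    haveI := (hF'f i).1; haveI := (hF'f i).2
    exact ⟨inferInstance, Module.Projective.of_free⟩
  -- the resolution after base change
  haveI : Module.Flat R (A ⊗[R] A) := Module.Flat.trans R A (A ⊗[R] A)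
  have hq' : QuasiIso ((_root_.DTen.extCx h).map q) := by
    refine (push_sq R R' A A').quasiIso_ext q (b := b) (b' := 0) hFb
      (fun i hi => HomologicalComplex.isZero_single_obj_X (ComplexShape.up ℤ) 0 _ i (by omega)) (fun i => ?_) fun i => ?_
    · rw [show (j₂ R A).comp (algebraMap R A) = algebraMap R (A ⊗[R] A) from
        (Algebra.TensorProduct.includeRight : A →ₐ[R] A ⊗[R] A).comp_algebraMap]
      haveI := (hFf i).2
      exact Groth.L20.TorAmp.flat_restrict (A := R) (F.X i)
    · by_cases hi : i = 0
      · subst hi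
        let G := ModuleCat.restrictScalars.{u} ((j₂ R A).comp (algebraMap R A))
        let M := Groth.L29.RestrictAdj.ringRes (μ R A)
        exact Module.Flat.of_linearEquiv (M := A)
          ((G.mapIso (HomologicalComplex.singleObjXSelf (ComplexShape.up ℤ) 0 M)).toLinearEquiv.trans
            ({ toFun := fun x => (x : A)
               map_add' := fun _ _ => rfl
               map_smul' := fun r (x : A) => by
                 change (μ R A) ((j₂ R A) (algebraMap R A r)) * x = r • x
                 rw [Algebra.smul_def]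
                 simp
               invFun := fun x => x
               left_inv := fun _ => rfl
               right_inv := fun _ => rfl } : G.obj M ≃ₗ[R] A))
      · haveI : Subsingleton ((ModuleCat.restrictScalars.{u} ((j₂ R A).comp (algebraMap R A))).obj
            (((CochainComplex.singleFunctor (ModuleCat.{u} (A ⊗[R] A)) 0).obj
              (Groth.L29.RestrictAdj.ringRes (μ R A))).X i)) :=
          ModuleCat.subsingleton_of_isZero (Functor.map_isZero _
            (HomologicalComplex.isZero_single_obj_X (ComplexShape.up ℤ) 0 _ i hi))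
        infer_instance
  obtain ⟨s₁⟩ := (push_μ R R' A A').nonempty_bcRes
    ((CochainComplex.singleFunctor (ModuleCat.{u} A) 0).obj (ModuleCat.of A A))
  obtain ⟨s₂⟩ := nonempty_ext_single_self ι
  let eM : (_root_.DTen.extCx h).obj ((CochainComplex.singleFunctor (ModuleCat.{u} (A ⊗[R] A)) 0).obj
      (Groth.L29.RestrictAdj.ringRes (μ R A))) ≅
      (CochainComplex.singleFunctor (ModuleCat.{u} (A' ⊗[R'] A')) 0).obj (Groth.L29.RestrictAdj.ringRes (μ R' A')) :=
    (_root_.DTen.extCx h).mapIso
      ((HomologicalComplex.singleMapHomologicalComplex (ModuleCat.restrictScalars.{u} (μ R A)) (ComplexShape.up ℤ) 0).app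
        (ModuleCat.of A A)).symm ≪≫ s₁ ≪≫
      (_root_.DTen.resCx (μ R' A')).mapIso s₂ ≪≫
      (HomologicalComplex.singleMapHomologicalComplex (ModuleCat.restrictScalars.{u} (μ R' A')) (ComplexShape.up ℤ) 0).app
        (ModuleCat.of A' A')
  haveI := hq'
  let q' : F' ⟶ (CochainComplex.singleFunctor (ModuleCat.{u} (A' ⊗[R'] A')) 0).obj
      (Groth.L29.RestrictAdj.ringRes (μ R' A')) := (_root_.DTen.extCx h).map q ≫ eM.hom
  -- the Hom complex after base change
  let E₁ := (_root_.DTen.extCx (j₁ R A)).obj E
  let X' := (_root_.DTen.extCx (j₁ R' A')).obj ((_root_.DTen.extCx ι).obj E)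
  obtain ⟨e₁⟩ := nonempty_res_rightAdjoint (μ R' A') adj' hF'b hF'p q' X' (c := c) fun i hi =>
    (ModuleCat.extendScalars.{u, u, u} (j₁ R' A')).map_isZero
      ((ModuleCat.extendScalars.{u, u, u} ι).map_isZero (hE i hi))
  obtain ⟨dF⟩ := nonempty_dual_ext h F hFf
  let eX : X' ≅ (_root_.DTen.extCx h).obj E₁ :=
    (_root_.DTen.extCompCx ι (j₁ R' A')).app E ≪≫
      eqToIso (by rw [← hSq_j₁ R R' A A']) ≪≫ ((_root_.DTen.extCompCx (j₁ R A) h).app E).symm
  let D : DRing.Cx (A ⊗[R] A) := HomologicalComplex.tensorObj (dual F) E₁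
  obtain ⟨s₃⟩ := (push_j₂ R R' A A').nonempty_bcRes D
  haveI := quasiIso_ext_of_tensor ι hz.ι hz.quasiIso_tensor
  haveI := Groth.L10.RHomCx.isIso_Q_map ((_root_.DTen.extCx ι).map hz.ι)
  exact ⟨((Groth.L29.ShriekEpi.restrictDId A').app _).symm ≪≫
    Groth.L10.RelPC.compIso (j₂ R' A') (μ R' A') (μ_j₂ R' A') _ ≪≫
    (DRing.restrictD (j₂ R' A')).mapIso e₁ ≪≫
    (_root_.DTen.resFactors (j₂ R' A')).app _ ≪≫
    DerivedCategory.Q.mapIso ((_root_.DTen.resCx (j₂ R' A')).mapIso
      ((dF.symm ⊗ᵢ eX) ≪≫ (_root_.DTen.extTenCxIso h (dual F) E₁).symm) ≪≫ s₃.symm) ≪≫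
    (asIso (DerivedCategory.Q.map ((_root_.DTen.extCx ι).map hz.ι))).symm ≪≫
    DerivedCategory.Q.mapIso s₂ ≪≫
    ((DerivedCategory.singleFunctorIsoCompQ (ModuleCat.{u} A') 0).app _).symm⟩

end Groth.L10.RelDual
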