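import Groth.Agent.L10.RelDual.Univ
import Groth.Agent.L10.Shriek.Diagonal
import Groth.Agent.L10.DRing.KFlatLBC
import Groth.Prelude.Def_DTen6
import Groth.Prelude.Def_DualSh

/-!
Uniqueness of relative dualizing complexes from the symmetry of the external product.
-/

set_option autoImplicit false
set_option backward.defeqAttrib.useBackward true
set_option backward.isDefEq.respectTransparency false
set_option linter.style.haveILetI false
set_option maxHeartbeats 1600000

universe u

open CategoryTheory CategoryTheory.Limits CochainComplex MonoidalCategory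
open scoped TensorProduct

attribute [local instance] HasDerivedCategory.standard

noncomputable section

namespace Groth.L10.RelDual

/-- derived base change along a flat map is termwise -/
theorem nonempty_lbc_flat {A B : Type u} [CommRing A] [CommRing B] (φ : A →+* B) (hφ : φ.Flat)
    [inst : DRing.HasLBaseChange φ] (P : DRing.Cx A) :
    Nonempty ((DRing.LBaseChange φ).obj (DRing.toD P) ≅ DRing.toD ((_root_.DTen.extCx φ).obj P)) := by
  letI := φ.toAlgebra
  haveI : Module.Flat A B := hφ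
  haveI : DRing.HasLBaseChange (algebraMap A B) := inst
  exact ⟨(Groth.L29.FlatBC.lbcIso A B).app (DRing.toD P) ≪≫
    (Groth.L29.FlatBC.ext A B).mapDerivedCategoryFactors.app P⟩

variable (R A : Type u) [CommRing R] [CommRing A] [Algebra R A]

/-- the exchange of the factors -/
abbrev σ : A ⊗[R] A →+* A ⊗[R] A := (Algebra.TensorProduct.comm R A A).toAlgHom.toRingHom

/-- exchanging the factors exchanges the complexes -/
def boxSwap (E G : DRing.Cx A) : (_root_.DTen.extCx (σ R A)).obj (box R A E G) ≅ box R A G E :=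
  _root_.DTen.extTenCxIso (σ R A) ((_root_.DTen.extCx (j₁ R A)).obj E) ((_root_.DTen.extCx (j₂ R A)).obj G) ≪≫
    ((_root_.DTen.extCompCx (j₁ R A) (σ R A)).app E ≪≫
      eqToIso (by rw [show (σ R A).comp (j₁ R A) = j₂ R A from RingHom.ext fun a => rfl]) ⊗ᵢ
    (_root_.DTen.extCompCx (j₂ R A) (σ R A)).app G ≪≫
      eqToIso (by rw [show (σ R A).comp (j₂ R A) = j₁ R A from RingHom.ext fun a => rfl])) ≪≫
    _root_.DTen.braidCx ((_root_.DTen.extCx (j₂ R A)).obj E) ((_root_.DTen.extCx (j₁ R A)).obj G)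

variable [Module.Flat R A] [Algebra.FinitePresentation R A]

/-- relative dualizing complexes are unique -/
theorem nonempty_unique [DRing.HasLBaseChange (Algebra.TensorProduct.includeLeftRingHom : A →+* A ⊗[R] A)]
    (Rμ : Dual.D (A ⊗[R] A) ⥤ Dual.D A) (adj : DRing.restrictD (μ R A) ⊣ Rμ) (K L : Dual.D A)
    (hK : Dual2.IsRelDualizing R A Rμ K) (hL : Dual2.IsRelDualizing R A Rμ L) : Nonempty (K ≅ L) := by
  obtain ⟨hKp, ⟨eK⟩⟩ := hK
  obtain ⟨hLp, ⟨eL⟩⟩ := hL
  obtain ⟨E, a, b, hEv, hET, ⟨iE⟩⟩ := Groth.L10.RelPC.exists_model R A hKp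
  obtain ⟨G, a', b', hGv, hGT, ⟨iG⟩⟩ := Groth.L10.RelPC.exists_model R A hLp
  have hE : ∀ i, i < a → IsZero (E.X i) := fun i hi => hEv i (Or.inl hi)
  have hG : ∀ i, i < a' → IsZero (G.X i) := fun i hi => hGv i (Or.inl hi)
  have hflat : (j₁ R A).Flat := RingHom.flat_algebraMap_iff.2 (inferInstanceAs (Module.Flat A (A ⊗[R] A)))
  obtain ⟨lE⟩ := nonempty_lbc_flat (j₁ R A) hflat E
  obtain ⟨lG⟩ := nonempty_lbc_flat (j₁ R A) hflat G
  obtain ⟨u₁⟩ := nonempty_univ R A adj E hE hET
    (Rμ.mapIso lE.symm ≪≫ Rμ.mapIso ((DRing.LBaseChange (j₁ R A)).mapIso iE) ≪≫ eK) G hG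
  obtain ⟨u₂⟩ := nonempty_univ R A adj G hG hGT
    (Rμ.mapIso lG.symm ≪≫ Rμ.mapIso ((DRing.LBaseChange (j₁ R A)).mapIso iG) ≪≫ eL) E hE
  have hσ : ∀ x, σ R A (σ R A x) = x := fun x => by
    induction x using TensorProduct.induction_on with
    | zero => simp
    | add x y hx hy => rw [map_add, map_add, hx, hy]
    | tmul p q => rfl
  have hμσ : μ R A = (μ R A).comp (σ R A) := by
    refine RingHom.ext fun x => ?_
    induction x using TensorProduct.induction_on with
    | zero => simp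
    | add x y hx hy => rw [map_add, map_add, hx, hy]
    | tmul p q => exact mul_comm p q
  haveI := Groth.L10.KFlatLBC.hasLBaseChange (σ R A)
  obtain ⟨lX⟩ := nonempty_lbc_flat (σ R A)
    (RingHom.Flat.of_bijective (Algebra.TensorProduct.comm R A A).bijective) (box R A E G)
  obtain ⟨s⟩ := Groth.L10.Shriek.nonempty_swap (σ R A) hσ (μ R A) hμσ adj (DRing.toD (box R A E G))
  exact ⟨iE.symm ≪≫ u₂.symm ≪≫ Rμ.mapIso (DerivedCategory.Q.mapIso (boxSwap R A E G).symm ≪≫ lX.symm) ≪≫
    s ≪≫ u₁ ≪≫ iG⟩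

end Groth.L10.RelDual
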