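import Groth.Agent.L10.RelDual.BaseChange
import Groth.Agent.L10.RelDual.Swap
import Groth.Agent.L10.DRing.RelPerfOps

/-!
Base change of relative dualizing complexes.
-/

set_option autoImplicit false
set_option backward.defeqAttrib.useBackward true
set_option backward.isDefEq.respectTransparency false
set_option linter.style.haveILetI false
set_option maxHeartbeats 1600000

universe u

open CategoryTheory CategoryTheory.Limits CochainComplex
open scoped TensorProduct

attribute [local instance] HasDerivedCategory.standard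

noncomputable section

namespace Groth.L10.RelDual

theorem flat_j₁ (R A : Type u) [CommRing R] [CommRing A] [Algebra R A] [Module.Flat R A] : (j₁ R A).Flat :=
  RingHom.flat_algebraMap_iff.2 (inferInstanceAs (Module.Flat A (A ⊗[R] A)))

variable (R R' A A' : Type u) [CommRing R] [CommRing R'] [CommRing A] [CommRing A']
  [Algebra R R'] [Algebra R A] [Algebra R' A'] [Algebra A A'] [Algebra R A']
  [IsScalarTower R R' A'] [IsScalarTower R A A'] [Algebra.IsPushout R R' A A']
  [Module.Flat R A] [Algebra.FinitePresentation R A] [Module.Flat R' A']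

/-- the base change of a relative dualizing complex is one -/
theorem isRelDualizing_baseChange
    [DRing.HasLBaseChange (Algebra.TensorProduct.includeLeftRingHom : A →+* A ⊗[R] A)]
    [DRing.HasLBaseChange (Algebra.TensorProduct.includeLeftRingHom : A' →+* A' ⊗[R'] A')]
    [DRing.HasLBaseChange (algebraMap A A')]
    {Rμ : Dual.D (A ⊗[R] A) ⥤ Dual.D A} (adj : DRing.restrictD (μ R A) ⊣ Rμ)
    {Rμ' : Dual.D (A' ⊗[R'] A') ⥤ Dual.D A'} (adj' : DRing.restrictD (μ R' A') ⊣ Rμ')
    {K : Dual.D A} (hK : Dual2.IsRelDualizing R A Rμ K) :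
    Dual2.IsRelDualizing R' A' Rμ' ((DRing.LBaseChange (algebraMap A A')).obj K) := by
  obtain ⟨hp, ⟨eK⟩⟩ := hK
  refine ⟨Groth.L10.RelPerfOps.baseChange (A := R) (A' := R') (S := A) (S' := A') hp, ?_⟩
  obtain ⟨E, a, b, hEv, hET, ⟨iE⟩⟩ := Groth.L10.RelPC.exists_model R A hp
  have hE : ∀ i, i < a → IsZero (E.X i) := fun i hi => hEv i (Or.inl hi)
  obtain ⟨l₁⟩ := nonempty_lbc_flat (j₁ R A) (flat_j₁ R A) E
  obtain ⟨l₂⟩ := (push_base R R' A A').nonempty_lbc (RingHom.flat_algebraMap_iff.2 inferInstance) E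
    (fun i hi => hEv i (Or.inr hi)) fun i => (hET i).2
  obtain ⟨l₃⟩ := nonempty_lbc_flat (j₁ R' A') (flat_j₁ R' A') ((_root_.DTen.extCx (algebraMap A A')).obj E)
  obtain ⟨e⟩ := nonempty_baseChange R R' A A' adj adj' E hE hET
    (Rμ.mapIso l₁.symm ≪≫ Rμ.mapIso ((DRing.LBaseChange (j₁ R A)).mapIso iE) ≪≫ eK)
  exact ⟨Rμ'.mapIso ((DRing.LBaseChange (j₁ R' A')).mapIso
    ((DRing.LBaseChange (algebraMap A A')).mapIso iE.symm ≪≫ l₂) ≪≫ l₃) ≪≫ e⟩

end Groth.L10.RelDual
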