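import Groth.Agent.L10.RelDual.Tensor
import Groth.Agent.L10.UnivExact.Aug
import Groth.Agent.L10.RelPC.RelPerfModel
import Groth.Agent.L29.Dual.Coind
import Groth.Agent.L29.Dual.FlatBC
import Groth.Prelude.Def_DTen4
import Mathlib.RingTheory.TensorProduct.Free

/-!
The diagonal `A ⊗_R A → A` of a flat algebra of finite presentation: resolutions, and the complex computing
`RHom(A, K ⊗_R A)`.
-/

set_option autoImplicit false
set_option backward.defeqAttrib.useBackward true
set_option backward.isDefEq.respectTransparency false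
set_option backward.isDefEq.respectTransparency.types false
set_option linter.style.haveILetI false
set_option maxHeartbeats 1600000

universe u

open CategoryTheory CategoryTheory.Limits CochainComplex
open scoped TensorProduct

attribute [local instance] HasDerivedCategory.standard

noncomputable section

namespace Groth.L10.RelDual

open Groth.L02.PC Groth.L10.DR Groth.L10.DualCx

/-- homology as cycles modulo boundaries -/
def hbEquiv {B : Type u} [CommRing B] (D : DRing.Cx B) (i j k : ℤ) (hi : i + 1 = j) (hk : j + 1 = k) :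
    D.homology j ≃ₗ[B] (LinearMap.ker (D.d j k).hom ⧸
      (LinearMap.range (D.d i j).hom).comap (LinearMap.ker (D.d j k).hom).subtype) :=
  ((D.homologyIsoSc' i j k (by rw [CochainComplex.prev]; omega) (by rw [CochainComplex.next]; omega)) ≪≫
      (D.sc' i j k).moduleCatHomologyIso).toLinearEquiv.trans (Submodule.quotEquivOfEq _ _ (by
    ext x
    constructor
    · rintro ⟨y, rfl⟩
      exact ⟨y, rfl⟩
    · rintro ⟨y, hy⟩
      exact ⟨y, Subtype.ext hy⟩))

/-- terms of a tensor product with finitely many finite free factors in a degree -/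
theorem terms {R B : Type u} [CommRing R] [CommRing B] (φ : R →+* B) (P K : DRing.Cx B) (n : ℤ) (S : Finset ℤ)
    (hz : ∀ p, p ∉ S → Subsingleton (P.X p ⊗[B] K.X (n - p)))
    (hP : ∀ p, Module.Finite B (P.X p) ∧ Module.Free B (P.X p))
    (hK : ∀ q, Module.FinitePresentation B (K.X q) ∧ Module.Flat R ((ModuleCat.restrictScalars.{u} φ).obj (K.X q))) :
    Module.FinitePresentation B ((HomologicalComplex.tensorObj P K).X n) ∧
      Module.Flat R ((ModuleCat.restrictScalars.{u} φ).obj ((HomologicalComplex.tensorObj P K).X n)) := by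
  letI := φ.toAlgebra
  letI (p : ℤ) : Module R (P.X p) := Module.compHom (P.X p) φ
  haveI (p : ℤ) : IsScalarTower R B (P.X p) := IsScalarTower.of_algebraMap_smul fun _ _ => rfl
  letI (p : ℤ) : Module R (K.X p) := Module.compHom (K.X p) φ
  haveI (p : ℤ) : IsScalarTower R B (K.X p) := IsScalarTower.of_algebraMap_smul fun _ _ => rfl
  haveI (p : ℤ) := (hP p).1
  haveI (p : ℤ) := (hP p).2
  haveI (p : ℤ) := (hK p).1
  haveI (p : ℤ) : Module.Flat R (K.X p) := (hK p).2
  let e := totalEquiv P K n S hz
  haveI : ∀ p : S, Module.FinitePresentation B (P.X p.1 ⊗[B] K.X (n - p.1)) := fun p => fp_tensor_free _ _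
  haveI : ∀ p : S, Module.Flat R (P.X p.1 ⊗[B] K.X (n - p.1)) := fun p => flat_tensor_free R _ _
  haveI : Module.Flat R ((p : S) → P.X p.1 ⊗[B] K.X (n - p.1)) :=
    Module.Flat.of_linearEquiv (DFinsupp.linearEquivFunOnFintype (R := R)).symm
  refine ⟨Module.FinitePresentation.of_equiv e.symm, ?_⟩
  exact Module.Flat.of_linearEquiv (M := (p : S) → P.X p.1 ⊗[B] K.X (n - p.1))
    ({ e.toAddEquiv with
        map_smul' := fun r x => by
          change e (φ r • x) = r • e x
          rw [map_smul]
          refine funext fun p => ?_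
          exact algebraMap_smul B r (e x p) } :
      ((ModuleCat.restrictScalars.{u} φ).obj ((HomologicalComplex.tensorObj P K).X n)) ≃ₗ[R]
        ((p : S) → P.X p.1 ⊗[B] K.X (n - p.1)))

/-- cocycle quotients after restriction -/
theorem flat_coker_res {R B : Type u} [CommRing R] [CommRing B] (φ : R →+* B) (hφ : φ.FinitePresentation)
    (D : DRing.Cx B) (c : ℤ) (hv : ∀ i, i < c → IsZero (D.X i))
    (hfp : ∀ i, Module.FinitePresentation B (D.X i))
    (hflat : ∀ i, Module.Flat R ((ModuleCat.restrictScalars.{u} φ).obj (D.X i)))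
    (hH : ∀ i j k : ℤ, i + 1 = j → j + 1 = k →
      Module.Flat R ((ModuleCat.restrictScalars.{u} φ).obj (ModuleCat.of B (LinearMap.ker (D.d j k).hom ⧸
        (LinearMap.range (D.d i j).hom).comap (LinearMap.ker (D.d j k).hom).subtype))) ∧
      Module.FinitePresentation B
        (LinearMap.ker (D.d j k).hom ⧸ (LinearMap.range (D.d i j).hom).comap (LinearMap.ker (D.d j k).hom).subtype))
    (i j : ℤ) (hij : i + 1 = j) :
    Module.Flat R ((((_root_.DTen.resCx φ).obj D).X j) ⧸ LinearMap.range (((_root_.DTen.resCx φ).obj D).d i j).hom) := by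
  letI := φ.toAlgebra
  haveI : Algebra.FinitePresentation R B := hφ
  letI (n : ℤ) : Module R (D.X n) := Module.compHom (D.X n) φ
  haveI (n : ℤ) : IsScalarTower R B (D.X n) := IsScalarTower.of_algebraMap_smul fun _ _ => rfl
  haveI := Groth.L10.UnivExact.flat_coker (R := R) D c hv hfp hflat (fun i j k hi hk => by
    haveI := (hH i j k hi hk).1
    refine ⟨Module.Flat.of_linearEquiv (M := (ModuleCat.restrictScalars.{u} φ).obj (ModuleCat.of B
        (LinearMap.ker (D.d j k).hom ⧸ (LinearMap.range (D.d i j).hom).comap (LinearMap.ker (D.d j k).hom).subtype)))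
      { toFun := fun q => q
        map_add' := fun _ _ => rfl
        map_smul' := fun r q => (algebraMap_smul B r q).symm
        invFun := fun q => q
        left_inv := fun _ => rfl
        right_inv := fun _ => rfl }, (hH i j k hi hk).2⟩) i j hij
  exact Module.Flat.of_linearEquiv
    (M := D.X j ⧸ LinearMap.range (D.d i j).hom)
    { toFun := fun q => Quotient.liftOn' q (fun x => Submodule.Quotient.mk (p := LinearMap.range (D.d i j).hom) x)
        fun x y hxy => by
          rw [Submodule.quotientRel_def] at hxy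
          exact (Submodule.Quotient.eq _).2 hxy
      map_add' := fun q q' => Quotient.inductionOn₂' q q' fun x y => rfl
      map_smul' := fun r q => Quotient.inductionOn' q fun x => rfl
      invFun := fun q => Quotient.liftOn' q (fun x => Submodule.Quotient.mk x) fun x y hxy => by
          rw [Submodule.quotientRel_def] at hxy
          exact (Submodule.Quotient.eq _).2 hxy
      left_inv := fun q => Quotient.inductionOn' q fun x => rfl
      right_inv := fun q => Quotient.inductionOn' q fun x => rfl }

variable (R A : Type u) [CommRing R] [CommRing A] [Algebra R A]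

/-- the left inclusion -/
abbrev j₁ : A →+* A ⊗[R] A := Algebra.TensorProduct.includeLeftRingHom

/-- the right inclusion -/
abbrev j₂ : A →+* A ⊗[R] A := (Algebra.TensorProduct.includeRight : A →ₐ[R] A ⊗[R] A).toRingHom

/-- multiplication -/
abbrev μ : A ⊗[R] A →+* A := (Algebra.TensorProduct.lmul' R (S := A)).toRingHom

theorem μ_j₂ : RingHom.id A = (μ R A).comp (j₂ R A) := RingHom.ext fun a => (one_mul a).symm

variable [Algebra.FinitePresentation R A]

theorem fp_ringRes : Module.FinitePresentation (A ⊗[R] A) (Groth.L29.RestrictAdj.ringRes (μ R A)) := by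
  letI : Algebra (A ⊗[R] A) A := (μ R A).toAlgebra
  haveI : IsScalarTower A (A ⊗[R] A) A := IsScalarTower.of_algebraMap_eq fun x => (mul_one x).symm
  haveI : Algebra.FinitePresentation A (A ⊗[R] A) := inferInstance
  haveI : Algebra.FinitePresentation (A ⊗[R] A) A :=
    Algebra.FinitePresentation.of_restrict_scalars_finitePresentation A (A ⊗[R] A) A
  haveI : Module.Finite (A ⊗[R] A) A :=
    Module.Finite.of_surjective (Algebra.linearMap (A ⊗[R] A) A) fun x => ⟨x ⊗ₜ 1, mul_one x⟩
  haveI := Module.FinitePresentation.of_finite_of_finitePresentation (A ⊗[R] A) A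
  exact Module.FinitePresentation.of_equiv
    ({ AddEquiv.refl A with map_smul' := fun t x => Algebra.smul_def t x } :
      A ≃ₗ[A ⊗[R] A] Groth.L29.RestrictAdj.ringRes (μ R A))

/-- the diagonal module has a finite free resolution -/
theorem exists_resolution [Module.Flat R A] :
    ∃ (F : DRing.Cx (A ⊗[R] A)) (b : ℤ), DRing.VanishesAbove F b ∧ DRing.TermwiseFiniteFree F ∧
      ∃ q : F ⟶ (CochainComplex.singleFunctor (ModuleCat.{u} (A ⊗[R] A)) 0).obj
        (Groth.L29.RestrictAdj.ringRes (μ R A)), QuasiIso q := by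
  let M := Groth.L29.RestrictAdj.ringRes (μ R A)
  letI : Module A M := inferInstanceAs (Module A A)
  haveI : IsScalarTower A (A ⊗[R] A) M := IsScalarTower.of_algebraMap_smul fun a (x : A) => by
    change (μ R A) (a ⊗ₜ 1) * x = a * x
    simp
  haveI : Module.Flat A M := inferInstanceAs (Module.Flat A A)
  haveI := fp_ringRes R A
  have hpc : DRing.IsPseudoCoherent' (A ⊗[R] A) (Dual.inD (A ⊗[R] A) M) :=
    Groth.L10.RelPC.pc'_flat_module A (A ⊗[R] A) M
  obtain ⟨b, hb⟩ := Groth.L10.RelPerfOps.leh_of_pc' hpc
  obtain ⟨F, hFb, hFf, ⟨e⟩⟩ := exists_finiteFree_le (fun m => pc_of_pc' hpc m) b hb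
  haveI : F.IsStrictlyLE b := (CochainComplex.isStrictlyLE_iff _ _).2 hFb
  haveI : ∀ i, CategoryTheory.Projective (F.X i) := fun i => by
    haveI := (hFf i).1; haveI := (hFf i).2
    exact (IsProjective.iff_projective _).1 Module.Projective.of_free
  haveI : F.IsKProjective := CochainComplex.isKProjective_of_projective F b
  obtain ⟨q, hq⟩ := exists_qis (E := (CochainComplex.singleFunctor (ModuleCat.{u} (A ⊗[R] A)) 0).obj M)
    (e ≪≫ (DerivedCategory.singleFunctorIsoCompQ (ModuleCat.{u} (A ⊗[R] A)) 0).app M)
  exact ⟨F, b, hFb, hFf, q, hq⟩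

omit [Algebra.FinitePresentation R A] in
/-- base change along the left inclusion is flat for the right structure -/
theorem flat_res_ext (N : ModuleCat.{u} A)
    (h : Module.Flat R ((ModuleCat.restrictScalars.{u} (algebraMap R A)).obj N)) :
    Module.Flat A ((ModuleCat.restrictScalars.{u} (j₂ R A)).obj
      ((ModuleCat.extendScalars.{u, u, u} (j₁ R A)).obj N)) := by
  letI : Module R N := Module.compHom N (algebraMap R A)
  haveI : IsScalarTower R A N := IsScalarTower.of_algebraMap_smul fun _ _ => rfl
  haveI : Module.Flat R N := h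
  let f : (A ⊗[R] A) ⊗[A] N ≃ₗ[R] A ⊗[R] N :=
    (TensorProduct.comm A (A ⊗[R] A) N).restrictScalars R ≪≫ₗ
      (TensorProduct.AlgebraTensorModule.cancelBaseChange R A A N A).restrictScalars R ≪≫ₗ TensorProduct.comm R N A
  have hf : ∀ a b n, f ((a ⊗ₜ[R] b) ⊗ₜ[A] n) = b ⊗ₜ[R] (a • n) := fun a b n => by simp [f]
  let e0 := Groth.L29.FlatBC.extEquiv A (A ⊗[R] A) N
  exact Module.Flat.of_linearEquiv (M := A ⊗[R] N)
    ({ e0.toAddEquiv.trans f.toAddEquiv with
        map_smul' := fun c x => by
          change f (e0 ((j₂ R A) c • x)) = c • f (e0 x)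
          rw [map_smul]
          induction e0 x using TensorProduct.induction_on with
          | zero => simp
          | tmul t n =>
            induction t using TensorProduct.induction_on with
            | zero => simp
            | tmul a b =>
              rw [TensorProduct.smul_tmul', hf, TensorProduct.smul_tmul']
              change f ((((1 : A) ⊗ₜ[R] c) * (a ⊗ₜ[R] b)) ⊗ₜ[A] n) = _
              rw [Algebra.TensorProduct.tmul_mul_tmul, one_mul, hf]
              rfl
            | add t t' ht ht' => rw [TensorProduct.add_tmul, smul_add, map_add, map_add, ht, ht', smul_add]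
          | add y y' hy hy' => rw [smul_add, map_add, map_add, hy, hy', smul_add] } :
      ((ModuleCat.restrictScalars.{u} (j₂ R A)).obj ((ModuleCat.extendScalars.{u, u, u} (j₁ R A)).obj N)) ≃ₗ[A]
        A ⊗[R] N)

omit [Algebra.FinitePresentation R A] in
theorem fp_ext (N : ModuleCat.{u} A) [Module.FinitePresentation A N] :
    Module.FinitePresentation (A ⊗[R] A) ((ModuleCat.extendScalars.{u, u, u} (j₁ R A)).obj N) :=
  Module.FinitePresentation.of_equiv (Groth.L29.FlatBC.extEquiv A (A ⊗[R] A) N).symm

/-- the complex computing `RHom(A, K ⊗_R A)` -/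
theorem exists_aug {F : DRing.Cx (A ⊗[R] A)} {b c : ℤ} (hFb : DRing.VanishesAbove F b)
    (hFf : DRing.TermwiseFiniteFree F) (E : DRing.Cx A) (hE : ∀ i, i < c → IsZero (E.X i))
    (hT : ∀ i : ℤ, Module.FinitePresentation A (E.X i) ∧
      Module.Flat R ((ModuleCat.restrictScalars.{u} (algebraMap R A)).obj (E.X i)))
    (e : DRing.toD (HomologicalComplex.tensorObj (dual F) ((_root_.DTen.extCx (j₁ R A)).obj E)) ≅
      DRing.toD ((CochainComplex.singleFunctor (ModuleCat.{u} (A ⊗[R] A)) 0).obj
        (Groth.L29.RestrictAdj.ringRes (μ R A)))) :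
    ∃ z, Groth.L10.UnivExact.Aug ((_root_.DTen.resCx (j₂ R A)).obj
      (HomologicalComplex.tensorObj (dual F) ((_root_.DTen.extCx (j₁ R A)).obj E))) z := by
  let E₁ := (_root_.DTen.extCx (j₁ R A)).obj E
  let D := HomologicalComplex.tensorObj (dual F) E₁
  let M := Groth.L29.RestrictAdj.ringRes (μ R A)
  let S := (CochainComplex.singleFunctor (ModuleCat.{u} (A ⊗[R] A)) 0).obj M
  have hz : ∀ n p : ℤ, p ∉ Finset.Icc (-b) (n - c) → Subsingleton ((dual F).X p ⊗[A ⊗[R] A] E₁.X (n - p)) := by
    intro n p hp
    by_cases h : p < -b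
    · haveI := ModuleCat.subsingleton_of_isZero (hFb (-p) (by omega))
      haveI : Subsingleton ((dual F).X p) := inferInstanceAs (Subsingleton (Module.Dual (A ⊗[R] A) (F.X (-p))))
      exact Groth.L28.TensorQis.subsingleton_tensor_left _ (ModuleCat.isZero_of_subsingleton _)
    · haveI := ModuleCat.subsingleton_of_isZero
        ((ModuleCat.extendScalars.{u, u, u} (j₁ R A)).map_isZero (hE (n - p) (by simp at hp; omega)))
      exact inferInstanceAs (Subsingleton (_ ⊗[A ⊗[R] A] ((ModuleCat.extendScalars.{u, u, u} (j₁ R A)).obj (E.X (n - p)))))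
  have hterm : ∀ n, Module.FinitePresentation (A ⊗[R] A) (D.X n) ∧
      Module.Flat A ((ModuleCat.restrictScalars.{u} (j₂ R A)).obj (D.X n)) := fun n =>
    terms (j₂ R A) (dual F) E₁ n _ (hz n)
      (fun p => by
        haveI := (hFf (-p)).1; haveI := (hFf (-p)).2
        exact ⟨inferInstanceAs (Module.Finite _ (Module.Dual (A ⊗[R] A) (F.X (-p)))),
          inferInstanceAs (Module.Free _ (Module.Dual (A ⊗[R] A) (F.X (-p))))⟩)
      (fun q => by
        haveI := (hT q).1
        exact ⟨fp_ext R A (E.X q), flat_res_ext R A (E.X q) (hT q).2⟩)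
  have hv : ∀ n, n < -b + c → IsZero (D.X n) := fun n hn => by
    haveI : Subsingleton ((p : (∅ : Finset ℤ)) → (dual F).X p.1 ⊗[A ⊗[R] A] E₁.X (n - p.1)) := inferInstance
    haveI := (totalEquiv (dual F) E₁ n ∅ fun p _ => hz n p (by simp; omega)).toEquiv.subsingleton
    exact ModuleCat.isZero_of_subsingleton _
  let eh : ∀ j, D.homology j ≅ S.homology j := fun j =>
    ((DerivedCategory.homologyFunctorFactors (ModuleCat.{u} (A ⊗[R] A)) j).app D).symm ≪≫
      (DerivedCategory.homologyFunctor (ModuleCat.{u} (A ⊗[R] A)) j).mapIso e ≪≫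
      (DerivedCategory.homologyFunctorFactors (ModuleCat.{u} (A ⊗[R] A)) j).app S
  have hsub : ∀ i j k : ℤ, i + 1 = j → j + 1 = k → j ≠ 0 → Subsingleton
      (LinearMap.ker (D.d j k).hom ⧸ (LinearMap.range (D.d i j).hom).comap (LinearMap.ker (D.d j k).hom).subtype) := by
    intro i j k hi hk hj
    have : IsZero (S.homology j) := HomologicalComplex.ExactAt.isZero_homology
      (HomologicalComplex.exactAt_single_obj _ _ _ _ hj)
    haveI := ModuleCat.subsingleton_of_isZero (this.of_iso (eh j))
    exact (hbEquiv D i j k hi hk).symm.toEquiv.subsingleton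
  let eH : (LinearMap.ker (D.d 0 1).hom ⧸ (LinearMap.range (D.d (-1) 0).hom).comap (LinearMap.ker (D.d 0 1).hom).subtype)
      ≃ₗ[A ⊗[R] A] M :=
    (hbEquiv D (-1) 0 1 (by omega) (by omega)).symm.trans
      (eh 0 ≪≫ HomologicalComplex.singleObjHomologySelfIso _ _ _).toLinearEquiv
  have hj2 : (j₂ R A).FinitePresentation := by
    have h := RingHom.FinitePresentation.comp
      (RingHom.FinitePresentation.of_bijective (f := (Algebra.TensorProduct.comm R A A).toRingEquiv.toRingHom)
        (Algebra.TensorProduct.comm R A A).bijective)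
      ((RingHom.finitePresentation_algebraMap (A := A) (B := A ⊗[R] A)).2 inferInstance)
    have hc : ((Algebra.TensorProduct.comm R A A).toRingEquiv.toRingHom).comp
        (algebraMap A (A ⊗[R] A)) = j₂ R A := RingHom.ext fun a => rfl
    rw [hc] at h
    exact h
  have hflatQ := flat_coker_res (j₂ R A) hj2 D (-b + c) hv (fun i => (hterm i).1) (fun i => (hterm i).2)
    (fun i j k hi hk => by
      by_cases hj : j = 0
      · subst hj
        obtain rfl : i = -1 := by omega
        obtain rfl : k = 1 := by omega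
        haveI := fp_ringRes R A
        refine ⟨?_, Module.FinitePresentation.of_equiv eH.symm⟩
        exact Module.Flat.of_linearEquiv (M := A)
          (((ModuleCat.restrictScalars.{u} (j₂ R A)).mapIso eH.toModuleIso).toLinearEquiv.trans
            ({ toFun := fun x => (x : A)
               map_add' := fun _ _ => rfl
               map_smul' := fun a (x : A) => by
                 change (μ R A) ((1 : A) ⊗ₜ[R] a) * x = a * x
                 simp
               invFun := fun x => x
               left_inv := fun _ => rfl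
               right_inv := fun _ => rfl } :
              (ModuleCat.restrictScalars.{u} (j₂ R A)).obj M ≃ₗ[A] A))
      · haveI := hsub i j k hi hk hj
        haveI : Subsingleton ((ModuleCat.restrictScalars.{u} (j₂ R A)).obj (ModuleCat.of (A ⊗[R] A)
          (LinearMap.ker (D.d j k).hom ⧸ (LinearMap.range (D.d i j).hom).comap (LinearMap.ker (D.d j k).hom).subtype))) :=
          hsub i j k hi hk hj
        exact ⟨inferInstance, inferInstance⟩)
  obtain ⟨⟨z, hz1⟩, hzcl⟩ := Submodule.mkQ_surjective _ (eH.symm (1 : A))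
  have hsm : ∀ (r : A) (hr : (D.d 0 1).hom ((j₂ R A) r • z) = 0),
      eH (Submodule.Quotient.mk ⟨(j₂ R A) r • z, hr⟩) = r := fun r hr => by
    have : Submodule.Quotient.mk ⟨(j₂ R A) r • z, hr⟩ = (j₂ R A) r • eH.symm (1 : A) := by
      rw [← hzcl]; rfl
    rw [this, map_smul, LinearEquiv.apply_symm_apply]
    change (μ R A) ((1 : A) ⊗ₜ[R] r) * 1 = r
    simp
  have hcyc : ∀ r : A, (D.d 0 1).hom ((j₂ R A) r • z) = 0 := fun r => by
    rw [map_smul, LinearMap.mem_ker.1 hz1, smul_zero]
  refine ⟨z, ?_, ?_, ?_, ?_, ?_, ?_⟩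
  · exact fun i => (hterm i).2
  · intro i j hij
    exact hflatQ i j hij
  · exact hz1
  · intro i j k hi hk hj y hy
    haveI := hsub i j k hi hk hj
    exact (Submodule.Quotient.mk_eq_zero _).1 (Subsingleton.elim
      (Submodule.Quotient.mk (p := (LinearMap.range (D.d i j).hom).comap (LinearMap.ker (D.d j k).hom).subtype)
        ⟨y, hy⟩) 0)
  · intro (y : D.X 0) (hy : (D.d 0 1).hom y = 0)
    let r : A := eH (Submodule.Quotient.mk ⟨y, hy⟩)
    have h : Submodule.Quotient.mk ⟨y, hy⟩ =
        (Submodule.Quotient.mk ⟨(j₂ R A) r • z, hcyc r⟩ : LinearMap.ker (D.d 0 1).hom ⧸ _) :=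
      eH.injective (hsm r (hcyc r)).symm
    obtain ⟨x, hx⟩ := (Submodule.Quotient.eq _).1 h
    refine ⟨r, x, ?_⟩
    change (j₂ R A) r • z + (D.d (-1) 0).hom x = y
    rw [show (D.d (-1) 0).hom x = y - (j₂ R A) r • z from hx, add_sub_cancel]
  · intro r x hx
    have h : (Submodule.Quotient.mk ⟨(j₂ R A) r • z, hcyc r⟩ : LinearMap.ker (D.d 0 1).hom ⧸
        (LinearMap.range (D.d (-1) 0).hom).comap (LinearMap.ker (D.d 0 1).hom).subtype) = 0 :=
      (Submodule.Quotient.mk_eq_zero _).2 ⟨x, hx.symm⟩
    rw [← hsm r (hcyc r), h, map_zero]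

end Groth.L10.RelDual
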