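import Groth.Agent.L10.DRing.RHomCx
import Groth.Agent.L29.Dual.InjRep
import Groth.Agent.L10.RelDual.Diag

/-!
Maps out of a K-projective complex as cohomology of the Hom complex, linearly.
-/

set_option autoImplicit false
set_option backward.defeqAttrib.useBackward true
set_option backward.isDefEq.respectTransparency false
set_option linter.style.haveILetI false

universe u

open CategoryTheory CategoryTheory.Limits CochainComplex CochainComplex.HomComplex

attribute [local instance] HasDerivedCategory.standard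

noncomputable section

namespace Groth.L10.RelDual

variable {A : Type u} [CommRing A] (P E : DRing.Cx A)

/-- the cohomology of the Hom complex in a degree -/
abbrev HC (i j k : ℤ) : Type u :=
  LinearMap.ker ((DRing.homCx P E).d j k).hom ⧸
    (LinearMap.range ((DRing.homCx P E).d i j).hom).comap (LinearMap.ker ((DRing.homCx P E).d j k).hom).subtype

variable [P.IsKProjective]

/-- the class of a cocycle -/
def classHom : LinearMap.ker ((DRing.homCx P E).d 0 1).hom →ₗ[A] (DRing.toD P ⟶ DRing.toD E) where
  toFun z := DerivedCategory.Q.map (Cocycle.homOf (Cocycle.mk (show Cochain P E 0 from z.1) 1 rfl z.2))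
  map_add' x y := by
    rw [← Functor.map_add]
    rfl
  map_smul' a x := by
    rw [RingHom.id_apply, ← Functor.map_smul]
    rfl

theorem classHom_eq_zero_iff (z : LinearMap.ker ((DRing.homCx P E).d 0 1).hom) :
    classHom P E z = 0 ↔ ∃ w : Cochain P E (-1), δ (-1) 0 w = (show Cochain P E 0 from z.1) := by
  let zc := Cocycle.mk (show Cochain P E 0 from z.1) 1 rfl z.2
  constructor
  · intro h
    have hh : (HomotopyCategory.quotient (ModuleCat.{u} A) (ComplexShape.up ℤ)).map (Cocycle.homOf zc) = 0 := by
      apply (CochainComplex.IsKProjective.Qh_map_bijective P _).1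
      rw [Functor.map_zero, ← cancel_mono ((DerivedCategory.quotientCompQhIso (ModuleCat.{u} A)).hom.app E),
        DerivedCategory.quotientCompQhIso_hom_naturality, zero_comp]
      exact (congrArg (_ ≫ ·) h).trans comp_zero
    rw [HomotopyCategory.quotient_map_eq_zero_iff] at hh
    obtain ⟨γ, hγ⟩ := Cochain.equivHomotopy _ _ hh.some
    refine ⟨γ, ?_⟩
    rw [Cochain.ofHom_zero, add_zero] at hγ
    exact hγ.symm.trans (by simp [zc])
  · rintro ⟨w, hw⟩
    have h : Homotopy (Cocycle.homOf zc) 0 := (Cochain.equivHomotopy _ _).symm ⟨w, by simp [zc, hw]⟩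
    have h0 := DerivedCategory.quotientCompQhIso_hom_naturality (Cocycle.homOf zc)
    rw [HomotopyCategory.eq_of_homotopy _ _ h, Functor.map_zero, Functor.map_zero, zero_comp] at h0
    exact (cancel_epi ((DerivedCategory.quotientCompQhIso (ModuleCat.{u} A)).hom.app P)).1
      (h0.symm.trans comp_zero.symm)

theorem classHom_surjective : Function.Surjective (classHom P E) := fun f => by
  obtain ⟨g, hg⟩ := Groth.L02.PC.exists_chainMap f
  refine ⟨⟨(Cochain.ofHom g : Cochain P E 0), δ_ofHom g⟩, ?_⟩
  rw [← hg]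
  show DerivedCategory.Q.map _ = _
  congr 1

/-- maps in the derived category are cohomology classes -/
def hcEquiv : HC P E (-1) 0 1 ≃ₗ[A] (DRing.toD P ⟶ DRing.toD E) :=
  LinearEquiv.ofBijective
    (Submodule.liftQ _ (classHom P E) fun z hz => (classHom_eq_zero_iff P E z).2 hz)
    ⟨by
      rw [← LinearMap.ker_eq_bot]
      refine Submodule.ker_liftQ_eq_bot _ _ _ fun z hz => ?_
      exact (classHom_eq_zero_iff P E z).1 hz, fun f => by
      obtain ⟨z, hz⟩ := classHom_surjective P E f
      exact ⟨Submodule.Quotient.mk z, hz⟩⟩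

/-- vanishing of maps into a shift is exactness of the Hom complex -/
theorem subsingleton_hom_iff (i : ℤ) :
    Subsingleton (DRing.toD P ⟶ (DRing.toD E)⟦i⟧) ↔ Subsingleton (HC P E (i - 1) i (i + 1)) := by
  let q := HomotopyCategory.quotient (ModuleCat.{u} A) (ComplexShape.up ℤ)
  let c := DerivedCategory.quotientCompQhIso (ModuleCat.{u} A)
  let b : CohomologyClass P E i ≃ (DRing.toD P ⟶ (DRing.toD E)⟦i⟧) :=
    (Equiv.ofBijective _ (CohomologyClass.toHom_bijective P E i)).trans
      ((Equiv.ofBijective _ (CochainComplex.IsKProjective.Qh_map_bijective P (q.obj (E⟦i⟧)))).trans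
        (Iso.homCongr (c.app P) (c.app (E⟦i⟧) ≪≫ (DerivedCategory.Q.commShiftIso i).app E)))
  rw [← b.subsingleton_congr]
  constructor
  · intro h
    refine Submodule.Quotient.subsingleton_iff.2 (eq_top_iff.2 fun z _ => ?_)
    let zc : Cocycle P E i := Cocycle.mk (show Cochain P E i from z.1) (i + 1) rfl z.2
    obtain ⟨w, hw⟩ := (mem_coboundaries_iff zc (i - 1) (sub_add_cancel i 1)).1
      ((CohomologyClass.mk_eq_zero_iff zc).1 (Subsingleton.elim _ _))
    exact ⟨w, hw⟩
  · intro h
    refine subsingleton_of_forall_eq 0 fun x => ?_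
    obtain ⟨z, rfl⟩ := CohomologyClass.mk_surjective x
    refine (CohomologyClass.mk_eq_zero_iff z).2 ((mem_coboundaries_iff z (i - 1) (sub_add_cancel i 1)).2 ?_)
    obtain ⟨w, hw⟩ := (Submodule.Quotient.mk_eq_zero _).1 (Subsingleton.elim
      (Submodule.Quotient.mk ⟨z.1, z.δ_eq_zero (i + 1)⟩ : HC P E (i - 1) i (i + 1)) 0)
    exact ⟨w, hw⟩

/-- a free module of rank one of maps gives bijectivity of scalar multiplication -/
theorem bijective_smul_id {X : Dual.D A} (e : (X ⟶ X) ≃ₗ[A] A) :
    Function.Bijective fun a : A => a • 𝟙 X := by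
  have hf : ∀ f : X ⟶ X, f = e f • e.symm 1 := fun f => e.injective (by simp)
  have hu : e (𝟙 X) * e (e.symm 1 ≫ e.symm 1) = 1 := by
    have h := congrArg e (congrArg (· ≫ e.symm 1) (hf (𝟙 X)))
    simp only [Category.id_comp, Linear.smul_comp, map_smul, LinearEquiv.apply_symm_apply, smul_eq_mul] at h
    exact h.symm
  refine ⟨fun a b h => ?_, fun f => ⟨e f * e (e.symm 1 ≫ e.symm 1), e.injective ?_⟩⟩
  · have h' := congrArg e h
    simp only [map_smul, smul_eq_mul] at h'
    calc a = a * (e (𝟙 X) * e (e.symm 1 ≫ e.symm 1)) := by rw [hu, mul_one]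
      _ = b * (e (𝟙 X) * e (e.symm 1 ≫ e.symm 1)) := by rw [← mul_assoc, h', mul_assoc]
      _ = b := by rw [hu, mul_one]
  · simp only [map_smul, smul_eq_mul]
    rw [mul_assoc, mul_comm (e (e.symm 1 ≫ e.symm 1)), hu, mul_one]

end Groth.L10.RelDual
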