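import Groth.Agent.L10.RelDual.EndHom
import Groth.Agent.L10.RelDual.BaseChangeMain

/-!
Endomorphisms of a relatively perfect complex with no self-extensions and scalar endomorphisms stay so after
any base change.
-/

set_option autoImplicit false
set_option backward.defeqAttrib.useBackward true
set_option backward.isDefEq.respectTransparency false
set_option linter.style.haveILetI false
set_option maxHeartbeats 1600000

universe u

open CategoryTheory CategoryTheory.Limits CochainComplex MonoidalCategory
open scoped TensorProduct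

attribute [local instance] HasDerivedCategory.standard

noncomputable section

namespace Groth.L10.RelDual

open Groth.L10.DualCx

section Flat

variable {A : Type u} [CommRing A]

/-- acyclic complexes of flat modules with flat cokernels stay acyclic after tensoring -/
theorem exactAt_tensor (C : DRing.Cx A) (hflat : ∀ i, Module.Flat A (C.X i))
    (hQ : ∀ i j : ℤ, i + 1 = j → Module.Flat A (C.X j ⧸ LinearMap.range (C.d i j).hom))
    (hex : ∀ i, C.ExactAt i) (M : ModuleCat.{u} A) (j : ℤ) :
    (((MonoidalCategory.tensorRight M).mapHomologicalComplex (ComplexShape.up ℤ)).obj C).ExactAt j := by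
  refine (HomologicalComplex.exactAt_iff' _ (j - 1) j (j + 1) (by simp) (by simp)).2 ?_
  rw [ShortComplex.moduleCat_exact_iff]
  intro (y : C.X j ⊗[A] M) (hy : (C.d j (j + 1)).hom.rTensor M y = 0)
  haveI := hQ j (j + 1) rfl
  let f := (C.d j (j + 1)).hom
  have hi : Function.Injective ((LinearMap.range f).subtype.rTensor M) := by
    rw [← LinearMap.lTensor_inj_iff_rTensor_inj]
    exact LinearMap.lTensor_injective_of_exact_of_flat (LinearMap.range f).mkQ (Submodule.mkQ_surjective _) _
      Subtype.val_injective (LinearMap.exact_subtype_mkQ _) M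
  have h0 : f.rangeRestrict.rTensor M y = 0 := hi (by
    rw [map_zero, ← LinearMap.comp_apply, ← LinearMap.rTensor_comp,
      show (LinearMap.range f).subtype ∘ₗ f.rangeRestrict = f from rfl]
    exact hy)
  have he := ((HomologicalComplex.exactAt_iff' C (j - 1) j (j + 1) (by simp) (by simp)).1 (hex j))
  rw [ShortComplex.moduleCat_exact_iff] at he
  have hexact : Function.Exact (C.d (j - 1) j).hom f.rangeRestrict := fun x => by
    rw [← LinearMap.mem_ker, LinearMap.ker_rangeRestrict]
    refine ⟨fun h => he x h, ?_⟩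
    rintro ⟨v, rfl⟩
    show f ((C.d (j - 1) j).hom v) = 0
    rw [← LinearMap.comp_apply, ← ModuleCat.hom_comp, C.d_comp_d]
    rfl
  exact (rTensor_exact M hexact f.surjective_rangeRestrict y).1 h0

theorem exactAt_of_res {B : Type u} [CommRing B] (φ : A →+* B) (C : DRing.Cx B) (i : ℤ) :
    ((_root_.DTen.resCx φ).obj C).ExactAt i ↔ C.ExactAt i :=
  (C.sc i).exact_map_iff_of_faithful (ModuleCat.restrictScalars.{u} φ)

end Flat

variable {A A' S S' : Type u} [CommRing A] [CommRing A'] [CommRing S] [CommRing S']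
  {φ : A →+* A'} {ψ : A →+* S} {φ' : S →+* S'} {ψ' : A' →+* S'}

/-- acyclic bounded below complexes of finitely presented modules, flat over the base -/
theorem Push.exactAt_ext (h : Push φ ψ φ' ψ') (hψ : ψ.FinitePresentation) (C : DRing.Cx S) {c : ℤ}
    (hv : ∀ i, i < c → IsZero (C.X i))
    (hT : ∀ i, Module.FinitePresentation S (C.X i) ∧ Module.Flat A ((ModuleCat.restrictScalars.{u} ψ).obj (C.X i)))
    (hex : ∀ i, C.ExactAt i) (i : ℤ) : ((_root_.DTen.extCx φ').obj C).ExactAt i := by
  have hQ := flat_coker_res ψ hψ C c hv (fun i => (hT i).1) (fun i => (hT i).2) fun i j k hi hk => by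
    haveI : Subsingleton (C.homology j) := ModuleCat.subsingleton_of_isZero (hex j).isZero_homology
    have hs := (hbEquiv C i j k hi hk).symm.toEquiv.subsingleton
    haveI := hs
    haveI : Subsingleton ((ModuleCat.restrictScalars.{u} ψ).obj (ModuleCat.of S (LinearMap.ker (C.d j k).hom ⧸
      (LinearMap.range (C.d i j).hom).comap (LinearMap.ker (C.d j k).hom).subtype))) := hs
    exact ⟨inferInstance, inferInstance⟩
  have ht := exactAt_tensor ((_root_.DTen.resCx ψ).obj C) (fun i => (hT i).2) hQ
    (fun i => (exactAt_of_res ψ C i).2 (hex i)) ((ModuleCat.restrictScalars.{u} φ).obj (ModuleCat.of A' A')) i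
  have h1 : ((_root_.DTen.resCx φ).obj ((_root_.DTen.extCx φ).obj ((_root_.DTen.resCx ψ).obj C))).ExactAt i :=
    ht.of_iso ((NatIso.mapHomologicalComplex (extResIso φ) (ComplexShape.up ℤ)).app ((_root_.DTen.resCx ψ).obj C)).symm
  obtain ⟨e⟩ := h.nonempty_bcRes C
  exact (exactAt_of_res ψ' _ i).1 (((exactAt_of_res φ _ i).1 h1).of_iso e)

/-- quasi-isomorphisms of bounded below complexes of finitely presented modules, flat over the base -/
theorem Push.quasiIso_ext_below (h : Push φ ψ φ' ψ') (hψ : ψ.FinitePresentation) {P Q : DRing.Cx S} (g : P ⟶ Q)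
    [QuasiIso g] {c : ℤ} (hPv : ∀ i, i < c → IsZero (P.X i)) (hQv : ∀ i, i < c → IsZero (Q.X i))
    (hP : ∀ i, Module.FinitePresentation S (P.X i) ∧ Module.Flat A ((ModuleCat.restrictScalars.{u} ψ).obj (P.X i)))
    (hQ : ∀ i, Module.FinitePresentation S (Q.X i) ∧ Module.Flat A ((ModuleCat.restrictScalars.{u} ψ).obj (Q.X i))) :
    QuasiIso ((_root_.DTen.extCx φ').map g) := by
  let e : ∀ i, (mappingCone g).X i ≃ₗ[S] P.X (i + 1) × Q.X i := fun i =>
    ((HomologicalComplex.homotopyCofiber.XIsoBiprod g i (i + 1) rfl) ≪≫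
      ModuleCat.biprodIsoProd (P.X (i + 1)) (Q.X i)).toLinearEquiv
  have hv : ∀ i, i < c - 1 → IsZero ((mappingCone g).X i) := fun i hi => by
    haveI := ModuleCat.subsingleton_of_isZero (hPv (i + 1) (by omega))
    haveI := ModuleCat.subsingleton_of_isZero (hQv i (by omega))
    haveI := (e i).toEquiv.subsingleton
    exact ModuleCat.isZero_of_subsingleton _
  have hC := h.exactAt_ext hψ (mappingCone g) hv (fun i => by
      haveI := (hP (i + 1)).1
      haveI := (hQ i).1
      refine ⟨Module.FinitePresentation.of_equiv (e i).symm, ?_⟩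
      letI := ψ.toAlgebra
      letI : Module A (P.X (i + 1)) := Module.compHom _ ψ
      letI : Module A (Q.X i) := Module.compHom _ ψ
      haveI : IsScalarTower A S (P.X (i + 1)) := IsScalarTower.of_algebraMap_smul fun _ _ => rfl
      haveI : IsScalarTower A S (Q.X i) := IsScalarTower.of_algebraMap_smul fun _ _ => rfl
      haveI : Module.Flat A (P.X (i + 1)) := (hP (i + 1)).2
      haveI : Module.Flat A (Q.X i) := (hQ i).2
      haveI : Module.Flat A (P.X (i + 1) × Q.X i) := Groth.L20.TorAmp.flat_prod
      exact Module.Flat.of_linearEquiv (M := P.X (i + 1) × Q.X i)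
        ({ (e i).toAddEquiv with
            map_smul' := fun a x => by
              change e i (ψ a • x) = a • e i x
              rw [map_smul]
              exact algebraMap_smul S a _ } :
          (ModuleCat.restrictScalars.{u} ψ).obj ((mappingCone g).X i) ≃ₗ[A] P.X (i + 1) × Q.X i))
    (fun i => (HomologicalComplex.exactAt_iff_isZero_homology _ _).2 (Groth.L00.ConeTransfer.acyclic_cone g i))
  exact Groth.L00.Cell.quasiIso_of_acyclic_cone _ fun i =>
    (hC i).isZero_homology.of_iso ((HomologicalComplex.homologyFunctor _ _ i).mapIso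
      (mappingCone.mapHomologicalComplexIso g (ModuleCat.extendScalars.{u, u, u} φ'))).symm

/-- a complex with cohomology the ring in degree zero receives a quasi-isomorphism from it -/
theorem exists_ι {C : DRing.Cx A}
    (e : (LinearMap.ker (C.d 0 1).hom ⧸ (LinearMap.range (C.d (-1) 0).hom).comap (LinearMap.ker (C.d 0 1).hom).subtype)
      ≃ₗ[A] A)
    (hs : ∀ i : ℤ, i ≠ 0 → Subsingleton (LinearMap.ker (C.d i (i + 1)).hom ⧸
      (LinearMap.range (C.d (i - 1) i).hom).comap (LinearMap.ker (C.d i (i + 1)).hom).subtype)) :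
    ∃ ι : (CochainComplex.singleFunctor (ModuleCat.{u} A) 0).obj (ModuleCat.of A A) ⟶ C, QuasiIso ι := by
  obtain ⟨z, hz⟩ := Submodule.mkQ_surjective _ (e.symm 1)
  have hcl : ∀ r : A, e (Submodule.Quotient.mk (r • z)) = r := fun r => by
    rw [Submodule.Quotient.mk_smul, map_smul, ← Submodule.mkQ_apply, hz, LinearEquiv.apply_symm_apply,
      smul_eq_mul, mul_one]
  let ι := Groth.L29.HomD.cycleHom C (ModuleCat.of A A) (ModuleCat.ofHom (LinearMap.toSpanSingleton A (C.X 0) z.1))
    (ModuleCat.hom_ext (LinearMap.ext fun r => by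
      change C.d 0 1 (r • z.1) = 0
      rw [map_smul]
      exact (congrArg (r • ·) z.2).trans (smul_zero r)))
  refine ⟨ι, ?_⟩
  let E := HomologicalComplex.singleObjXSelf (ComplexShape.up ℤ) 0 (ModuleCat.of A A)
  have hsub : ∀ n, n ≠ 0 → Subsingleton (((CochainComplex.singleFunctor (ModuleCat.{u} A) 0).obj (ModuleCat.of A A)).X n) :=
    fun n hn => ModuleCat.subsingleton_of_isZero
      (HomologicalComplex.isZero_single_obj_X (ComplexShape.up ℤ) 0 _ n hn)
  have hf : ∀ a, ι.f 0 a = (E.hom.hom a : A) • z.1 := fun a => by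
    rw [Groth.L29.HomD.cycleHom_f]
    rfl
  refine Groth.L10.RHomCx.quasiIso_of_elements _ (fun n y hy => ?_) (fun n x w _ he => ?_)
  · by_cases hn : n = 0
    · subst hn
      let r : A := e (Submodule.Quotient.mk ⟨y, hy⟩)
      have h1 : Submodule.Quotient.mk ⟨y, hy⟩ =
          (Submodule.Quotient.mk (r • z) : LinearMap.ker (C.d 0 1).hom ⧸ _) := e.injective (hcl r).symm
      obtain ⟨x, hx⟩ := (Submodule.Quotient.eq _).1 h1
      refine ⟨E.inv.hom r, x, ?_, ?_⟩
      · haveI := hsub (0 + 1) (by omega)
        exact Subsingleton.elim _ _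
      · rw [hf, show (E.hom.hom (E.inv.hom r) : A) = r from Iso.inv_hom_id_apply E _]
        exact (congrArg (r • z.1 + ·) hx).trans (add_sub_cancel (r • z.1) y)
    · haveI := hs n hn
      obtain ⟨x, hx⟩ := (Submodule.Quotient.mk_eq_zero _).1 (Subsingleton.elim
        (Submodule.Quotient.mk (p := (LinearMap.range (C.d (n - 1) n).hom).comap (LinearMap.ker (C.d n (n + 1)).hom).subtype)
          ⟨y, hy⟩) 0)
      exact ⟨0, x, map_zero _, by rw [map_zero, zero_add]; exact hx⟩
  · refine ⟨0, ?_⟩
    rw [map_zero]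
    by_cases hn : n = 0
    · subst hn
      rw [hf] at he
      apply E.toLinearEquiv.injective
      rw [map_zero]
      have h0 : (Submodule.Quotient.mk ((E.hom.hom x : A) • z) : LinearMap.ker (C.d 0 1).hom ⧸
          (LinearMap.range (C.d (-1) 0).hom).comap (LinearMap.ker (C.d 0 1).hom).subtype) = 0 :=
        (Submodule.Quotient.mk_eq_zero _).2 ⟨w, he.symm⟩
      have := hcl (E.hom.hom x)
      rw [h0, map_zero] at this
      exact this
    · haveI := hsub n hn
      exact Subsingleton.elim _ _

section Main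

variable (R R' A A' : Type u) [CommRing R] [CommRing R'] [CommRing A] [CommRing A']
  [Algebra R R'] [Algebra R A] [Algebra R' A'] [Algebra A A'] [Algebra R A']
  [IsScalarTower R R' A'] [IsScalarTower R A A'] [Algebra.IsPushout R R' A A']
  [Module.Flat R A] [Algebra.FinitePresentation R A]

include R' in
/-- scalar endomorphisms and vanishing self-extensions are stable under base change -/
theorem end_baseChange [DRing.HasLBaseChange (algebraMap A A')] {K : Dual.D A} (hp : Dual2.IsRelPerfect R A K)
    (hb : Function.Bijective fun a : A => a • 𝟙 K) (hs : ∀ i : ℤ, i ≠ 0 → Subsingleton (K ⟶ K⟦i⟧)) :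
    Function.Bijective (fun a : A' => a • 𝟙 ((DRing.LBaseChange (algebraMap A A')).obj K)) ∧
      ∀ i : ℤ, i ≠ 0 → Subsingleton ((DRing.LBaseChange (algebraMap A A')).obj K ⟶
        ((DRing.LBaseChange (algebraMap A A')).obj K)⟦i⟧) := by
  obtain ⟨hpc, -⟩ := id hp
  obtain ⟨E, c, d, hEv, hET, ⟨iE⟩⟩ := Groth.L10.RelPC.exists_model R A hp
  have hE : ∀ i, i < c → IsZero (E.X i) := fun i hi => hEv i (Or.inl hi)
  have hE' : DRing.VanishesAbove E d := fun i hi => hEv i (Or.inr hi)
  obtain ⟨b, hb'⟩ := Groth.L10.RelPerfOps.leh_of_pc' hpc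
  obtain ⟨F, hFb, hFf, ⟨eF⟩⟩ := Groth.L10.DR.exists_finiteFree_le (fun m => Groth.L02.PC.pc_of_pc' hpc m) b hb'
  haveI : F.IsStrictlyLE b := (CochainComplex.isStrictlyLE_iff _ _).2 hFb
  haveI : ∀ i, CategoryTheory.Projective (F.X i) := fun i => by
    haveI := (hFf i).1; haveI := (hFf i).2
    exact (IsProjective.iff_projective _).1 Module.Projective.of_free
  haveI : F.IsKProjective := CochainComplex.isKProjective_of_projective F b
  obtain ⟨q, hq⟩ := exists_qis (eF ≪≫ iE.symm)
  haveI := hq
  haveI := Groth.L10.RHomCx.isIso_Q_map q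
  have hFp : DRing.TermwiseFiniteProjective F := fun i => by
    haveI := (hFf i).1; haveI := (hFf i).2
    exact ⟨inferInstance, Module.Projective.of_free⟩
  -- before base change
  let D : DRing.Cx A := HomologicalComplex.tensorObj (dual F) E
  let θ := θIso hFb hFp hE
  let eE : (DRing.toD F ⟶ DRing.toD E) ≃ₗ[A] A :=
    (Linear.homCongr A eF iE).trans (LinearEquiv.ofBijective (LinearMap.toSpanSingleton A (K ⟶ K) (𝟙 K)) hb).symm
  obtain ⟨ι₀, hι₀⟩ := exists_ι (C := DRing.homCx F E) ((hcEquiv F E).trans eE) fun i hi =>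
    (subsingleton_hom_iff F E i).1 <| by
      haveI := hs i hi
      exact (Iso.homCongr eF ((CategoryTheory.shiftFunctor (Dual.D A) i).mapIso iE)).subsingleton
  haveI := hι₀
  let ι : (CochainComplex.singleFunctor (ModuleCat.{u} A) 0).obj (ModuleCat.of A A) ⟶ D := ι₀ ≫ θ.inv
  -- the terms
  have hz : ∀ n p : ℤ, p ∉ Finset.Icc (-b) (n - c) → Subsingleton ((dual F).X p ⊗[A] E.X (n - p)) := by
    intro n p hp
    by_cases h : p < -b
    · haveI := ModuleCat.subsingleton_of_isZero (hFb (-p) (by omega))
      haveI : Subsingleton ((dual F).X p) := inferInstanceAs (Subsingleton (Module.Dual A (F.X (-p))))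
      exact Groth.L28.TensorQis.subsingleton_tensor_left _ (ModuleCat.isZero_of_subsingleton _)
    · haveI := ModuleCat.subsingleton_of_isZero (hE (n - p) (by simp at hp; omega))
      infer_instance
  have hD : ∀ n, Module.FinitePresentation A (D.X n) ∧
      Module.Flat R ((ModuleCat.restrictScalars.{u} (algebraMap R A)).obj (D.X n)) := fun n =>
    terms (algebraMap R A) (dual F) E n _ (hz n)
      (fun p => by
        haveI := (hFf (-p)).1; haveI := (hFf (-p)).2
        exact ⟨inferInstanceAs (Module.Finite _ (Module.Dual A (F.X (-p)))),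
          inferInstanceAs (Module.Free _ (Module.Dual A (F.X (-p))))⟩) hET
  let φ := algebraMap A A'
  have hS : ∀ i, Module.FinitePresentation A
      (((CochainComplex.singleFunctor (ModuleCat.{u} A) 0).obj (ModuleCat.of A A)).X i) ∧
      Module.Flat R ((ModuleCat.restrictScalars.{u} (algebraMap R A)).obj
        (((CochainComplex.singleFunctor (ModuleCat.{u} A) 0).obj (ModuleCat.of A A)).X i)) := fun i => by
    by_cases hi : i = 0
    · subst hi
      let e := HomologicalComplex.singleObjXSelf (ComplexShape.up ℤ) 0 (ModuleCat.of A A)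
      haveI : Module.Free A (((CochainComplex.singleFunctor (ModuleCat.{u} A) 0).obj (ModuleCat.of A A)).X 0) :=
        Module.Free.of_equiv e.toLinearEquiv.symm
      exact ⟨Module.FinitePresentation.of_equiv e.toLinearEquiv.symm,
        Groth.L20.TorAmp.flat_restrict (A := R)
          (((CochainComplex.singleFunctor (ModuleCat.{u} A) 0).obj (ModuleCat.of A A)).X 0)⟩
    · have hz0 := HomologicalComplex.isZero_single_obj_X (ComplexShape.up ℤ) 0 (ModuleCat.of A A) i hi
      haveI : Subsingleton (((CochainComplex.singleFunctor (ModuleCat.{u} A) 0).obj (ModuleCat.of A A)).X i) :=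
        ModuleCat.subsingleton_of_isZero hz0
      haveI : Subsingleton ((ModuleCat.restrictScalars.{u} (algebraMap R A)).obj
          (((CochainComplex.singleFunctor (ModuleCat.{u} A) 0).obj (ModuleCat.of A A)).X i)) :=
        ModuleCat.subsingleton_of_isZero (Functor.map_isZero _ hz0)
      haveI : Module.Free A (((CochainComplex.singleFunctor (ModuleCat.{u} A) 0).obj (ModuleCat.of A A)).X i) :=
        Module.Free.of_subsingleton A _
      exact ⟨Module.finitePresentation_of_projective A _, inferInstance⟩
  have hDv : ∀ n, n < min 0 (-b + c) → IsZero (D.X n) := fun n hn => by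
    haveI := (totalEquiv (dual F) E n ∅ fun p _ => hz n p (by simp; omega)).toEquiv.subsingleton
    exact ModuleCat.isZero_of_subsingleton _
  have hψ : (algebraMap R A).FinitePresentation := RingHom.finitePresentation_algebraMap.2 inferInstance
  haveI := (push_base R R' A A').quasiIso_ext_below hψ ι (c := min 0 (-b + c))
    (fun i hi => HomologicalComplex.isZero_single_obj_X (ComplexShape.up ℤ) 0 _ i (by omega)) hDv hS hD
  -- after base change
  let F' := (_root_.DTen.extCx φ).obj F
  let E' := (_root_.DTen.extCx φ).obj E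
  have hF'b : DRing.VanishesAbove F' b := fun i hi => (ModuleCat.extendScalars.{u, u, u} φ).map_isZero (hFb i hi)
  have hF'f := termwiseFiniteFree_ext φ hFf
  have hF'p : DRing.TermwiseFiniteProjective F' := fun i => by
    haveI := (hF'f i).1; haveI := (hF'f i).2
    exact ⟨inferInstance, Module.Projective.of_free⟩
  haveI : F'.IsStrictlyLE b := (CochainComplex.isStrictlyLE_iff _ _).2 hF'b
  haveI : ∀ i, CategoryTheory.Projective (F'.X i) := fun i => (IsProjective.iff_projective _).1 (hF'p i).2
  haveI : F'.IsKProjective := CochainComplex.isKProjective_of_projective F' b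
  obtain ⟨dF⟩ := nonempty_dual_ext φ F hFf
  obtain ⟨s⟩ := nonempty_ext_single_self φ
  let T : ((CochainComplex.singleFunctor (ModuleCat.{u} A') 0).obj (ModuleCat.of A' A')) ⟶ DRing.homCx F' E' :=
    s.inv ≫ (_root_.DTen.extCx φ).map ι ≫ (_root_.DTen.extTenCxIso φ (dual F) E).hom ≫
      (dF ⊗ᵢ Iso.refl E').hom ≫ (θIso hF'b hF'p fun i hi => (ModuleCat.extendScalars.{u, u, u} φ).map_isZero (hE i hi)).hom
  haveI : QuasiIso T := inferInstance
  let eh : ∀ j, (DRing.homCx F' E').homology j ≅
      ((CochainComplex.singleFunctor (ModuleCat.{u} A') 0).obj (ModuleCat.of A' A')).homology j := fun j =>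
    (asIso (HomologicalComplex.homologyMap T j)).symm
  obtain ⟨iK'⟩ := (push_base R R' A A').nonempty_lbc (RingHom.flat_algebraMap_iff.2 inferInstance) E hE'
    fun i => (hET i).2
  haveI := (push_base R R' A A').quasiIso_ext q hFb hE'
    (fun i => haveI := (hFf i).2; Groth.L20.TorAmp.flat_restrict (A := R) (F.X i)) fun i => (hET i).2
  haveI := Groth.L10.RHomCx.isIso_Q_map ((_root_.DTen.extCx φ).map q)
  let j₂ : (DRing.LBaseChange φ).obj K ≅ DRing.toD E' := (DRing.LBaseChange φ).mapIso iE.symm ≪≫ iK'
  let j₁ : (DRing.LBaseChange φ).obj K ≅ DRing.toD F' :=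
    j₂ ≪≫ (asIso (DerivedCategory.Q.map ((_root_.DTen.extCx φ).map q))).symm
  refine ⟨bijective_smul_id ((Linear.homCongr A' j₁ j₂).trans ((hcEquiv F' E').symm.trans
    ((hbEquiv (DRing.homCx F' E') (-1) 0 1 (by omega) (by omega)).symm.trans
      (eh 0 ≪≫ HomologicalComplex.singleObjHomologySelfIso _ _ _).toLinearEquiv))), fun i hi => ?_⟩
  haveI : Subsingleton (HC F' E' (i - 1) i (i + 1)) := by
    have h0 : IsZero ((DRing.homCx F' E').homology i) := (HomologicalComplex.ExactAt.isZero_homology
      (HomologicalComplex.exactAt_single_obj _ _ _ _ hi)).of_iso (eh i)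
    haveI := ModuleCat.subsingleton_of_isZero h0
    exact (hbEquiv (DRing.homCx F' E') (i - 1) i (i + 1) (by omega) (by omega)).symm.toEquiv.subsingleton
  haveI := (subsingleton_hom_iff F' E' i).2 inferInstance
  exact (Iso.homCongr j₁ ((CategoryTheory.shiftFunctor (Dual.D A') i).mapIso j₂)).subsingleton

end Main

end Groth.L10.RelDual
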