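import Groth.Agent.L10.RelDual.Tensor
import Groth.Agent.L29.Dual.Coind

/-!
A right adjoint of restriction of scalars, computed by a finite projective resolution of the target ring.
-/

set_option autoImplicit false
set_option backward.defeqAttrib.useBackward true
set_option backward.isDefEq.respectTransparency false
set_option linter.style.haveILetI false

universe u

open CategoryTheory CategoryTheory.Limits CochainComplex CochainComplex.HomComplex

attribute [local instance] HasDerivedCategory.standard

noncomputable section

namespace Groth.L10.RelDual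

variable {T A : Type u} [CommRing T] [CommRing A]

/-- `Hom(M, I)` is the Hom complex out of a module in degree zero -/
def hmIso (I : DRing.Cx T) (M : ModuleCat.{u} T) :
    Groth.L29.HomD.HM I M ≅ DRing.homCx ((CochainComplex.singleFunctor (ModuleCat.{u} T) 0).obj M) I :=
  HomologicalComplex.Hom.isoOfComponents
    (fun n => LinearEquiv.toModuleIso
      (X₁ := (M ⟶ I.X n))
      (X₂ := Cochain ((CochainComplex.singleFunctor (ModuleCat.{u} T) 0).obj M) I n)
      { (Cochain.fromSingleEquiv (X := M) (K := I) (show 0 + n = n by omega)).symm with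
        map_smul' := fun a f => by
          apply (Cochain.fromSingleEquiv (X := M) (K := I) (show 0 + n = n by omega)).injective
          change Cochain.fromSingleEquiv _ ((Cochain.fromSingleEquiv _).symm (a • f)) =
            Cochain.fromSingleEquiv _ (a • (Cochain.fromSingleEquiv _).symm f)
          rw [AddEquiv.apply_symm_apply]
          have : Cochain.fromSingleEquiv (X := M) (K := I) (show 0 + n = n by omega)
              (a • (Cochain.fromSingleEquiv (show 0 + n = n by omega)).symm f) =
              a • Cochain.fromSingleEquiv (X := M) (K := I) (show 0 + n = n by omega)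
                ((Cochain.fromSingleEquiv (show 0 + n = n by omega)).symm f) := by
            simp [Cochain.fromSingleEquiv]
          rw [this, AddEquiv.apply_symm_apply] })
    (fun i j hij => by
      refine ModuleCat.hom_ext (LinearMap.ext fun (f : M ⟶ I.X i) => ?_)
      change δ i j (Cochain.fromSingleMk f (show 0 + i = i by omega)) =
        Cochain.fromSingleMk (f ≫ I.d i j) (show 0 + j = j by omega)
      exact Cochain.δ_fromSingleMk _ _ _ _ _)

/-- the right adjoint of restriction, computed by a resolution -/
theorem nonempty_res_rightAdjoint (φ : T →+* A) {Rφ : Dual.D T ⥤ Dual.D A} (adj : DRing.restrictD φ ⊣ Rφ)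
    {F : DRing.Cx T} {b : ℤ} (hFb : DRing.VanishesAbove F b) (hFp : DRing.TermwiseFiniteProjective F)
    (q : F ⟶ (CochainComplex.singleFunctor (ModuleCat.{u} T) 0).obj (Groth.L29.RestrictAdj.ringRes φ)) [QuasiIso q]
    (X : DRing.Cx T) {c : ℤ} (hX : ∀ i, i < c → IsZero (X.X i)) :
    Nonempty ((DRing.restrictD φ).obj (Rφ.obj (DRing.toD X)) ≅
      DRing.toD (HomologicalComplex.tensorObj (Groth.L10.DualCx.dual F) X)) := by
  haveI : F.IsStrictlyLE b := (CochainComplex.isStrictlyLE_iff _ _).2 hFb
  haveI : ∀ i, CategoryTheory.Projective (F.X i) := fun i => (IsProjective.iff_projective _).1 (hFp i).2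
  haveI : F.IsKProjective := CochainComplex.isKProjective_of_projective F b
  let L := KInjRes.res X
  haveI := Groth.L10.RHomCx.isIso_Q_map (KInjRes.resι X)
  obtain ⟨e⟩ := Groth.L29.RestrictAdj.nonempty_coind_iso φ adj L
  haveI := Groth.L10.RHomCx.quasiIso_homCxPre q L
  haveI := Groth.L10.RHomCx.isIso_Q_map (Groth.L10.RHomCx.homCxPre q L)
  haveI := Groth.L10.RHomCx.quasiIso_homCxMap F (KInjRes.resι X)
  haveI := Groth.L10.RHomCx.isIso_Q_map (DRing.homCxMap F (KInjRes.resι X))
  exact ⟨(DRing.restrictD φ).mapIso (Rφ.mapIso (asIso (DerivedCategory.Q.map (KInjRes.resι X)))) ≪≫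
    (DRing.restrictD φ).mapIso e.symm ≪≫
    (ModuleCat.restrictScalars.{u} φ).mapDerivedCategoryFactors.app _ ≪≫
    DerivedCategory.Q.mapIso (Groth.L29.RestrictAdj.resCoindIso φ L ≪≫ hmIso L _) ≪≫
    asIso (DerivedCategory.Q.map (Groth.L10.RHomCx.homCxPre q L)) ≪≫
    (asIso (DerivedCategory.Q.map (DRing.homCxMap F (KInjRes.resι X)))).symm ≪≫
    DerivedCategory.Q.mapIso (θIso hFb hFp hX).symm⟩

end Groth.L10.RelDual
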