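import Groth.Agent.L10.DRing.HomCxPerfect
import Mathlib.RingTheory.Flat.Basic
import Mathlib.Algebra.Module.FinitePresentation

/-!
Total tensor complexes with finitely many non-zero summands in a degree; the dual of a bounded above complex of
finite projectives tensored with a bounded below complex is the Hom complex.
-/

set_option autoImplicit false
set_option backward.defeqAttrib.useBackward true
set_option backward.isDefEq.respectTransparency false
set_option backward.isDefEq.respectTransparency.types false
set_option linter.style.haveILetI false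

universe u

open CategoryTheory CategoryTheory.Limits MonoidalCategory CochainComplex CochainComplex.HomComplex
open scoped TensorProduct

attribute [local instance] HasDerivedCategory.standard

noncomputable section

namespace Groth.L10.RelDual

open Groth.L28.TensorCx Groth.L10.HomCxPerfect Groth.L10.DualCx

variable {A : Type u} [CommRing A]

/-- the decomposition of a degree with finite support -/
theorem sum_ins_proj (P Q : DRing.Cx A) (n : ℤ) (S : Finset ℤ)
    (hz : ∀ p, p ∉ S → Subsingleton (P.X p ⊗[A] Q.X (n - p))) (t : (HomologicalComplex.tensorObj P Q).X n) :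
    ∑ p ∈ S, ins P Q p (n - p) n (by omega) (proj P Q p (n - p) n t) = t := by
  classical
  have key : ModuleCat.ofHom (∑ p ∈ S, (ins P Q p (n - p) n (by omega)).comp (proj P Q p (n - p) n)) =
      𝟙 ((HomologicalComplex.tensorObj P Q).X n) := by
    refine Groth.L28.TensorCx.hom_ext fun p q h z => ?_
    obtain rfl : q = n - p := by omega
    show (∑ p₁ ∈ S, (ins P Q p₁ (n - p₁) n (by omega)).comp (proj P Q p₁ (n - p₁) n)) (ins P Q p (n - p) n h z) =
      ins P Q p (n - p) n h z
    rw [LinearMap.sum_apply, Finset.sum_eq_single p (fun p₁ _ hne => by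
      rw [LinearMap.comp_apply, proj_ins_ne P Q h (fun e => hne e.1.symm), map_zero]) (fun hp => by
      haveI := hz p hp
      rw [Subsingleton.elim z 0]
      simp)]
    rw [LinearMap.comp_apply, proj_ins_self]
  have := congrArg (fun φ => φ.hom t) key
  simpa using this

/-- a degree with finite support is a finite product -/
def totalEquiv (P Q : DRing.Cx A) (n : ℤ) (S : Finset ℤ)
    (hz : ∀ p, p ∉ S → Subsingleton (P.X p ⊗[A] Q.X (n - p))) :
    (HomologicalComplex.tensorObj P Q).X n ≃ₗ[A] ((p : S) → P.X p.1 ⊗[A] Q.X (n - p.1)) :=
  LinearEquiv.ofBijective (LinearMap.pi fun p : S => proj P Q p.1 (n - p.1) n) <| by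
    classical
    refine ⟨fun t t' h => ?_, fun w => ?_⟩
    · rw [← sum_ins_proj P Q n S hz t, ← sum_ins_proj P Q n S hz t']
      exact Finset.sum_congr rfl fun p hp => congrArg _ (congrFun h ⟨p, hp⟩)
    · refine ⟨∑ p : S, ins P Q p.1 (n - p.1) n (by omega) (w p), funext fun p => ?_⟩
      rw [LinearMap.pi_apply, map_sum, Finset.sum_eq_single p (fun p₁ _ hne =>
        proj_ins_ne P Q _ (fun e => hne (Subtype.ext e.1)) _) (fun hp => absurd (Finset.mem_univ p) hp), proj_ins_self]

/-- finite free modules tensored -/
theorem fp_tensor_free (F N : Type u) [AddCommGroup F] [Module A F] [Module.Finite A F] [Module.Free A F]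
    [AddCommGroup N] [Module A N] [Module.FinitePresentation A N] : Module.FinitePresentation A (F ⊗[A] N) := by
  let b := Module.Free.chooseBasis A F
  exact Module.FinitePresentation.of_equiv
    ((TensorProduct.equivFinsuppOfBasisLeft b).trans (Finsupp.linearEquivFunOnFinite A N _)).symm

/-- finite free modules tensored, flatness over another ring -/
theorem flat_tensor_free (R : Type u) [CommRing R] [Algebra R A] (F N : Type u) [AddCommGroup F] [Module A F]
    [Module.Finite A F] [Module.Free A F] [Module R F] [IsScalarTower R A F] [AddCommGroup N] [Module A N] [Module R N]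
    [IsScalarTower R A N] [Module.Flat R N] : Module.Flat R (F ⊗[A] N) := by
  let b := Module.Free.chooseBasis A F
  haveI : Module.Flat R (Module.Free.ChooseBasisIndex A F → N) :=
    Module.Flat.of_linearEquiv (DFinsupp.linearEquivFunOnFintype (R := R) (M := fun _ : Module.Free.ChooseBasisIndex A F => N)).symm
  exact Module.Flat.of_linearEquiv
    (((TensorProduct.equivFinsuppOfBasisLeft b).trans (Finsupp.linearEquivFunOnFinite A N _)).restrictScalars R)

variable {P K : DRing.Cx A}

/-- the dual tensor is the Hom complex -/
theorem θf_bijective {b c : ℤ} (hP : DRing.VanishesAbove P b)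
    (hPp : DRing.TermwiseFiniteProjective P) (hK : ∀ i, i < c → IsZero (K.X i)) (n : ℤ) :
    Function.Bijective (θf P K n) := by
  classical
  let S : Finset ℤ := Finset.Icc (-b) (n - c)
  have hz : ∀ p, p ∉ S → IsZero (P.X (-p)) ∨ IsZero (K.X (n - p)) := fun p hp => by
    by_cases h : p < -b
    · exact Or.inl (hP _ (by omega))
    · exact Or.inr (hK _ (by simp [S] at hp; omega))
  have hz' : ∀ p, p ∉ S → Subsingleton ((dual P).X p ⊗[A] K.X (n - p)) := fun p hp => by
    rcases hz p hp with h | h
    · haveI := ModuleCat.subsingleton_of_isZero h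
      haveI : Subsingleton ((dual P).X p) := inferInstanceAs (Subsingleton (Module.Dual A (P.X (-p))))
      exact Groth.L28.TensorQis.subsingleton_tensor_left _ (ModuleCat.isZero_of_subsingleton _)
    · haveI := ModuleCat.subsingleton_of_isZero h
      infer_instance
  have hbij : ∀ p q, Function.Bijective fun w : (dual P).X p ⊗[A] K.X q =>
      (((p * q).negOnePow : ℤ) : A) • dualTensorHom A (P.X (-p)) (K.X q) w := fun p q => by
    haveI := (hPp (-p)).1
    haveI := (hPp (-p)).2
    have hu : IsUnit (((p * q).negOnePow : ℤ) : A) := ((p * q).negOnePow.isUnit).map (Int.castRingHom A)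
    exact hu.smul_bijective.comp dualTensorHom_bijective
  let E := totalEquiv (dual P) K n S hz'
  refine ⟨(injective_iff_map_eq_zero _).2 fun t ht => E.injective (funext fun p => ?_), fun z => ?_⟩
  · have h := θf_v P K n p.1 (n - p.1) (by omega) t
    rw [ht, Cochain.zero_v] at h
    refine (hbij p.1 (n - p.1)).1 ((congrArg ModuleCat.Hom.hom h).symm.trans ?_)
    simp
  · choose w hw using fun p => (hbij p (n - p)).2 (z.v (-p) (n - p) (by omega)).hom
    refine ⟨E.symm fun p => w p.1, cochain_ext_neg P K fun p q h => ?_⟩
    obtain rfl : q = n - p := by omega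
    by_cases hp : p ∈ S
    · rw [θf_v]
      refine ModuleCat.hom_ext ?_
      have h1 : proj (dual P) K p (n - p) n (E.symm fun p => w p.1) = w p :=
        congrFun (E.apply_symm_apply fun p => w p.1) ⟨p, hp⟩
      show (((p * (n - p)).negOnePow : ℤ) : A) •
        dualTensorHom A _ _ (proj (dual P) K p (n - p) n (E.symm fun p => w p.1)) = _
      rw [h1]
      exact hw p
    · rcases hz p hp with h' | h'
      · exact h'.eq_of_src _ _
      · exact h'.eq_of_tgt _ _

/-- the dual tensor is the Hom complex, as complexes -/
def θIso {b c : ℤ} (hP : DRing.VanishesAbove P b) (hPp : DRing.TermwiseFiniteProjective P)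
    (hK : ∀ i, i < c → IsZero (K.X i)) :
    HomologicalComplex.tensorObj (dual P) K ≅ DRing.homCx P K :=
  haveI : ∀ n, IsIso ((θ P K).f n) := fun n =>
    (ConcreteCategory.isIso_iff_bijective _).2 (θf_bijective hP hPp hK n)
  haveI : IsIso (θ P K) := HomologicalComplex.Hom.isIso_of_components _
  asIso (θ P K)

end Groth.L10.RelDual
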