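import Groth.Agent.L10.RelDual.RHom
import Groth.Agent.L10.RelDual.Diag
import Groth.Agent.L10.RelPC.Hom
import Groth.Agent.L29.Shriek.Epi
import Groth.Agent.L00.PullStalk
import Groth.Prelude.Def_DTen

/-!
If `RHom_{A ⊗_R A}(A, K ⊗_R A) ≅ A` for a relatively perfect `K`, then `RHom_{A ⊗_R A}(A, K ⊗_R G) ≅ G`
for every bounded below complex `G`.
-/

set_option autoImplicit false
set_option backward.defeqAttrib.useBackward true
set_option backward.isDefEq.respectTransparency false
set_option linter.style.haveILetI false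
set_option maxHeartbeats 1600000

universe u

open CategoryTheory CategoryTheory.Limits CochainComplex MonoidalCategory
open scoped TensorProduct

attribute [local instance] HasDerivedCategory.standard

noncomputable section

namespace Groth.L10.RelDual

open Groth.L10.DualCx

variable (R A : Type u) [CommRing R] [CommRing A] [Algebra R A]

/-- a tensor product of bounded below complexes is bounded below -/
theorem isZero_tensor {B : Type u} [CommRing B] (P K : DRing.Cx B) {c c' : ℤ} (hP : ∀ i, i < c → IsZero (P.X i))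
    (hK : ∀ i, i < c' → IsZero (K.X i)) (n : ℤ) (hn : n < c + c') : IsZero ((HomologicalComplex.tensorObj P K).X n) := by
  haveI := (totalEquiv P K n ∅ fun p _ => by
    by_cases h : p < c
    · exact Groth.L28.TensorQis.subsingleton_tensor_left _ (hP p h)
    · haveI := ModuleCat.subsingleton_of_isZero (hK (n - p) (by omega))
      infer_instance).toEquiv.subsingleton
  exact ModuleCat.isZero_of_subsingleton _

/-- the external product of two complexes of `A`-modules -/
abbrev box (E G : DRing.Cx A) : DRing.Cx (A ⊗[R] A) :=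
  HomologicalComplex.tensorObj ((_root_.DTen.extCx (j₁ R A)).obj E) ((_root_.DTen.extCx (j₂ R A)).obj G)

variable [Module.Flat R A] [Algebra.FinitePresentation R A]

/-- the resolution of the diagonal and the augmentation of the Hom complex -/
theorem exists_data {Rμ : Dual.D (A ⊗[R] A) ⥤ Dual.D A} (adj : DRing.restrictD (μ R A) ⊣ Rμ)
    (E : DRing.Cx A) {c : ℤ} (hE : ∀ i, i < c → IsZero (E.X i))
    (hT : ∀ i : ℤ, Module.FinitePresentation A (E.X i) ∧
      Module.Flat R ((ModuleCat.restrictScalars.{u} (algebraMap R A)).obj (E.X i)))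
    (e₀ : Rμ.obj (DRing.toD ((_root_.DTen.extCx (j₁ R A)).obj E)) ≅ Dual.inD A A) :
    ∃ (F : DRing.Cx (A ⊗[R] A)) (b : ℤ), DRing.VanishesAbove F b ∧ DRing.TermwiseFiniteFree F ∧
      (∃ q : F ⟶ (CochainComplex.singleFunctor (ModuleCat.{u} (A ⊗[R] A)) 0).obj
        (Groth.L29.RestrictAdj.ringRes (μ R A)), QuasiIso q) ∧
      ∃ z, Groth.L10.UnivExact.Aug ((_root_.DTen.resCx (j₂ R A)).obj
        (HomologicalComplex.tensorObj (dual F) ((_root_.DTen.extCx (j₁ R A)).obj E))) z := by
  obtain ⟨F, b, hFb, hFf, q, hq⟩ := exists_resolution R A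
  haveI := hq
  have hFp : DRing.TermwiseFiniteProjective F := fun i => by
    haveI := (hFf i).1; haveI := (hFf i).2
    exact ⟨inferInstance, Module.Projective.of_free⟩
  obtain ⟨e₁⟩ := nonempty_res_rightAdjoint (μ R A) adj hFb hFp q ((_root_.DTen.extCx (j₁ R A)).obj E)
    (c := c) fun i hi => (ModuleCat.extendScalars.{u, u, u} (j₁ R A)).map_isZero (hE i hi)
  refine ⟨F, b, hFb, hFf, ⟨q, hq⟩, exists_aug R A hFb hFf E hE hT ?_⟩
  exact e₁.symm ≪≫ (DRing.restrictD (μ R A)).mapIso e₀ ≪≫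
    ((ModuleCat.restrictScalars.{u} (μ R A)).mapDerivedCategorySingleFunctor 0).app (ModuleCat.of A A) ≪≫
    (DerivedCategory.singleFunctorIsoCompQ (ModuleCat.{u} (A ⊗[R] A)) 0).app _

/-- universality of a relative dualizing complex -/
theorem nonempty_univ {Rμ : Dual.D (A ⊗[R] A) ⥤ Dual.D A} (adj : DRing.restrictD (μ R A) ⊣ Rμ)
    (E : DRing.Cx A) {c : ℤ} (hE : ∀ i, i < c → IsZero (E.X i))
    (hT : ∀ i : ℤ, Module.FinitePresentation A (E.X i) ∧
      Module.Flat R ((ModuleCat.restrictScalars.{u} (algebraMap R A)).obj (E.X i)))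
    (e₀ : Rμ.obj (DRing.toD ((_root_.DTen.extCx (j₁ R A)).obj E)) ≅ Dual.inD A A)
    (G : DRing.Cx A) {c' : ℤ} (hG : ∀ i, i < c' → IsZero (G.X i)) :
    Nonempty (Rμ.obj (DRing.toD (box R A E G)) ≅ DRing.toD G) := by
  obtain ⟨F, b, hFb, hFf, ⟨q, hq⟩, z, hz⟩ := exists_data R A adj E hE hT e₀
  haveI := hq
  have hFp : DRing.TermwiseFiniteProjective F := fun i => by
    haveI := (hFf i).1; haveI := (hFf i).2
    exact ⟨inferInstance, Module.Projective.of_free⟩
  obtain ⟨e₂⟩ := nonempty_res_rightAdjoint (μ R A) adj hFb hFp q (box R A E G) (c := c + c')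
    (isZero_tensor _ _ (fun i hi => (ModuleCat.extendScalars.{u, u, u} (j₁ R A)).map_isZero (hE i hi))
      fun i hi => (ModuleCat.extendScalars.{u, u, u} (j₂ R A)).map_isZero (hG i hi))
  let E₁ := (_root_.DTen.extCx (j₁ R A)).obj E
  let G₂ := (_root_.DTen.extCx (j₂ R A)).obj G
  let D : DRing.Cx (A ⊗[R] A) := dual F ⊗ E₁
  haveI := hz.quasiIso_tensor_cx G
  haveI := Groth.L10.RHomCx.isIso_Q_map (G ◁ hz.ι)
  exact ⟨((Groth.L29.ShriekEpi.restrictDId A).app _).symm ≪≫
    Groth.L10.RelPC.compIso (j₂ R A) (μ R A) (μ_j₂ R A) _ ≪≫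
    (DRing.restrictD (j₂ R A)).mapIso e₂ ≪≫
    (_root_.DTen.resFactors (j₂ R A)).app _ ≪≫
    DerivedCategory.Q.mapIso ((_root_.DTen.resCx (j₂ R A)).mapIso
      ((α_ (dual F) E₁ G₂).symm ≪≫ _root_.DTen.braidCx D G₂) ≪≫
      (Groth.L00.BaseChangeTensor.tensorIso (j₂ R A) G D).symm) ≪≫
    (asIso (DerivedCategory.Q.map (G ◁ hz.ι))).symm ≪≫
    DerivedCategory.Q.mapIso (ρ_ G)⟩

end Groth.L10.RelDual
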